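import Cfsg.Agent.HSR.StH

/-! The model is the whole group. -/

set_option autoImplicit false
set_option linter.unusedSectionVars false
set_option maxRecDepth 100000

namespace Cfsg.Agent.HSR

open Subgroup MulAction Cfsg.Agent.Mat Cfsg.Agent.Local

attribute [local irreducible] cmul cinv pack ms msM msH msB msP m1 xs ps

variable {G : Type*} [Group G] [Finite G]

theorem gl_model {Z : Type*} [Group Z] {A X : Subgroup Z} {F : A →* G} (hF : Function.Injective F) (hX : X ≤ A)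
    {T J : A} (tX : T.1 ∈ X) (tt : T * T = 1) (t1 : T ≠ 1) {Y : Subgroup G} (hle : (X.subgroupOf A).map F ≤ Y)
    (hC : ∀ k ∈ Y, k * F T = F T * k → k ∈ (X.subgroupOf A).map F) (hJ : ∀ k : G, k * F T * k⁻¹ ≠ F J)
    (h1 : ∀ m ∈ X, m * m = 1 → m = 1 ∨ ∃ k ∈ X, k * T * k⁻¹ = m ∨ k * J * k⁻¹ = m)
    (h2 : ∀ k ∈ X, k * T * k⁻¹ * T = T * (k * T * k⁻¹) → k * T * k⁻¹ = T ∨ ∃ m ∈ X, m * T * m⁻¹ = k * T * k⁻¹ * T) :
    Y ≤ (X.subgroupOf A).map F ∨ ∃ d, d ∉ (X.subgroupOf A).map F ∧ ∃ K ≤ X,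
      (∀ k : A, k.1 ∈ K → d * F k * d⁻¹ ∈ (X.subgroupOf A).map F) ∧
      (∀ a ∈ X, ∀ b ∈ X, ∃ k ∈ K, k * (a * T * a⁻¹) * k⁻¹ = b * T * b⁻¹) ∧ ∀ a ∈ X, a * T * a⁻¹ ∉ K := by
  have cj : ∀ a b : A, F a * F b * (F a)⁻¹ = F (a * b * a⁻¹) := fun a b => by simp
  refine (gl_lemma (t := F T) (Y0 := (X.subgroupOf A).map F) (by rw [← map_mul, tt, map_one]) ⟨T, tX, rfl⟩ hle hC ?_ ?_).imp_right ?_
  · rintro k - ⟨m, hm, e⟩
    rcases h1 m hm (congrArg Subtype.val (hF (a₁ := m * m) (a₂ := 1) (by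
      rw [map_mul, e, map_one, conj_mul, ← map_mul, tt]; simp))) with e1 | ⟨a, ha, e1 | e1⟩
    · rw [show m = 1 from Subtype.ext e1, map_one, eq_comm, conj_eq_one_iff] at e
      exact absurd (hF (e.trans (map_one F).symm)) t1
    · exact ⟨_, ⟨⟨a, hX ha⟩, ha, rfl⟩, by rw [cj, ← e]; exact congrArg F (Subtype.ext e1)⟩
    · rw [← show ⟨a, hX ha⟩ * J * ⟨a, hX ha⟩⁻¹ = m from Subtype.ext e1, ← cj] at e
      exact absurd (by rw [mul_inv_rev, mul_assoc _ k, mul_assoc, ← mul_assoc _ k⁻¹, ← e]; group)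
        (hJ ((F ⟨a, hX ha⟩)⁻¹ * k))
  · rintro _ ⟨k, hk, rfl⟩ e
    rw [cj, ← map_mul, ← map_mul] at e
    refine (h2 k hk (congrArg Subtype.val (hF e))).imp (fun e => ?_) fun ⟨m, hm, e⟩ => ⟨_, ⟨⟨m, hX hm⟩, hm, rfl⟩, ?_⟩
    · rw [cj]; exact congrArg F (Subtype.ext e)
    · rw [cj, cj, ← map_mul]; exact congrArg F (Subtype.ext e)
  rintro ⟨d, -, h3, h4, h5⟩
  refine ⟨d, h3, (X.subgroupOf A ⊓ ((X.subgroupOf A).map F).comap ((MulAut.conj d).toMonoidHom.comp F)).map A.subtype,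
    by rintro _ ⟨k, hk, rfl⟩; exact hk.1, fun k hk => ((mem_map_iff_mem A.subtype_injective).mp hk).2,
    fun a ha b hb => ?_, fun a ha e => h5 _ ⟨⟨a, hX ha⟩, ha, rfl⟩ ?_⟩
  · obtain ⟨_, ⟨k, hk, rfl⟩, e1, e2⟩ := h4 _ ⟨⟨a, hX ha⟩, ha, rfl⟩ _ ⟨⟨b, hX hb⟩, hb, rfl⟩
    rw [cj, cj, cj] at e2
    exact ⟨k, ⟨k, ⟨hk, e1⟩, rfl⟩, congrArg Subtype.val (hF e2)⟩
  · rw [cj]
    exact (mem_inf.mp ((mem_map_iff_mem A.subtype_injective (x := ⟨a, hX ha⟩ * T * ⟨a, hX ha⟩⁻¹)).mp e)).2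

theorem St.surj_F {g : Gn G} {H R V M : Subgroup G} {ρ : H →* Equiv.Perm (Fin 5)} (S : St g H R V M ρ) {h : G}
    (LH : Loc usH H (g.l h)) {F : cl ms →* G} (hF : Function.Injective F) (hw : ∀ w, F (el ms w) = ev (g.l h) w) :
    Function.Surjective F := by
  have eT : F (el ms [5]) = g.t := (hw _).trans (ev_one _ _)
  have tt : el ms [5] * el ms [5] = 1 := hF (by rw [map_mul, eT, S.tt, map_one])
  have t1 : el ms [5] ≠ 1 := fun e => S.ne (by rw [← eT, e, map_one])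
  have cH : ∀ k, k * g.t = g.t * k → ∃ m : cl ms, m.1 ∈ cl msH ∧ F m = k := fun k hk => by
    obtain ⟨w, -, e, hm⟩ := LH.cover k ((S.memH k).mpr hk)
    exact ⟨el ms w, msH_eq ▸ hm, (hw w).trans e⟩
  have cH' : ∀ m ∈ cl ms, m * ev ms [5] = ev ms [5] * m → m ∈ cl msH := fun m hm e => by
    obtain ⟨k, hk, e1⟩ := cH (F ⟨m, hm⟩) (by rw [← eT, ← map_mul, ← map_mul]; exact congrArg F (Subtype.ext e))
    rwa [hF e1] at hk
  have hJ : ∀ k : G, k * F (el ms [5]) * k⁻¹ ≠ F (el ms [13, 14]) := fun k e => by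
    have h1 := card_dvd_of_le (H := (((cl ps).subgroupOf (cl ms)).map F).map (MulAut.conj k⁻¹).toMonoidHom) (K := H) (by
      rintro _ ⟨_, ⟨m, hm, rfl⟩, rfl⟩
      have h2 : F (el ms [13, 14]) * F m = F m * F (el ms [13, 14]) := by
        rw [← map_mul, ← map_mul]
        exact congrArg F (Subtype.ext (mem_centralizer_singleton_iff.mp (cl_le (K := centralizer {ev ms [13, 14]})
          (fun a ha => mem_centralizer_singleton_iff.mpr (c9_chk.2 a ha)) hm)).symm)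
      rw [← e, eT] at h2
      refine (S.memH _).mpr ?_
      calc k⁻¹ * F m * k⁻¹⁻¹ * g.t = k⁻¹ * (F m * (k * g.t * k⁻¹)) * k := by group
        _ = g.t * (k⁻¹ * F m * k⁻¹⁻¹) := by rw [← h2]; group)
    rw [card_map_of_injective (MulAut.conj k⁻¹).injective, card_map_of_injective hF,
      Nat.card_congr (subgroupOfEquivOfLe ps_le).toEquiv, card_ps, S.cardH] at h1
    omega
  have cy : centralizer {F (el ms [0])} ≤ ((cl xs).subgroupOf (cl ms)).map F := by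
    refine (gl_model hF xs_le (xs_chk.2.subst (motive := (· ∈ cl xs)) (ev_mem_cl xs _)) tt t1 ?_ (fun k hk e => ?_) hJ (fun m hm => (pass0 hm).1)
      fun k hk => prod0 hk).resolve_right ?_
    · rintro _ ⟨m, hm, rfl⟩
      rw [mem_centralizer_singleton_iff, ← map_mul, ← map_mul]
      exact congrArg F (Subtype.ext (mem_centralizer_singleton_iff.mp (cl_le (K := centralizer {ev ms [0]})
        (fun a ha => mem_centralizer_singleton_iff.mpr (xs_chk.1 a ha)) hm)))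
    · obtain ⟨m, hm, rfl⟩ := cH k (eT ▸ e)
      rw [mem_centralizer_singleton_iff, ← map_mul, ← map_mul] at hk
      exact ⟨m, (passH hm).2.1 (congrArg Subtype.val (hF hk)), rfl⟩
    · rintro ⟨d, -, K, h1, -, h2, h3⟩
      exact noK h1 h2 h3
  rcases gl_model hF le_rfl (Y := ⊤) (ev_mem_cl ms _) tt t1 le_top (fun k _ e => by
      obtain ⟨m, -, rfl⟩ := cH k (eT ▸ e)
      exact ⟨m, m.2, rfl⟩) hJ (fun m hm => inv_cls hm) (fun k hk e => prod_cls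
      (cH' _ (mul_mem (mul_mem hk (ev_mem_cl _ _)) (inv_mem hk)) e) e) with e | ⟨d, h1, K, h2, h3, h4, -⟩
  · exact fun a => (e (mem_top a)).imp fun _ h => h.2
  exfalso
  have h5 := M11.card_inf_centralizer_mul (cl ms) (ev ms [5])
  have h6 := M11.card_inf_centralizer_mul K (ev ms [5])
  rw [show {w | ∃ r ∈ K, r * ev ms [5] * r⁻¹ = w} = {w | ∃ r ∈ cl ms, r * ev ms [5] * r⁻¹ = w} from
    Set.ext fun w => ⟨fun ⟨r, hr, e⟩ => ⟨r, h2 hr, e⟩, fun ⟨r, hr, e⟩ => by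
      have := h4 1 (one_mem _) r hr
      rwa [one_mul, inv_one, mul_one, show r * (el ms [5]).1 * r⁻¹ = w from e] at this⟩] at h6
  obtain ⟨c, h7⟩ := card_dvd_of_le (H := cl ms ⊓ centralizer {ev ms [5]}) (K := cl msH) fun m hm =>
    cH' m hm.1 (mem_centralizer_singleton_iff.mp hm.2)
  rw [← card_msH] at h7
  rw [hs_iso.2] at h5
  generalize {w | ∃ r ∈ cl ms, r * ev ms [5] * r⁻¹ = w}.ncard = n at h5 h6
  have h8 : 3 ∣ n := by
    have : n = 5775 * c := Nat.eq_of_mul_eq_mul_left (Nat.card_pos (α := ↥(cl ms ⊓ centralizer {ev ms [5]}))) (by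
      rw [h5, mul_left_comm, ← h7]; rfl)
    omega
  obtain ⟨m, hm, e⟩ := exists_mem_orderOf_eq_of_dvd_card Nat.prime_three (h6 ▸ h8.mul_left _)
  have m3 : (⟨m, h2 hm⟩ : cl ms) ^ 3 = 1 := Subtype.ext (e ▸ pow_orderOf_eq_one m)
  have m1 : m ≠ 1 := fun e' => by simp [e'] at e
  obtain ⟨m', -, e'⟩ := h3 ⟨m, h2 hm⟩ hm
  obtain ⟨a, ha, ea⟩ := three_cls (h2 hm) (congrArg Subtype.val m3) m1
  obtain ⟨b, hb, eb⟩ := three_cls m'.2 (congrArg Subtype.val (hF (a₁ := m' ^ 3) (a₂ := 1) (by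
    rw [map_pow, e', conj_pow, ← map_pow, m3]; simp))) fun e1 => m1 (congrArg Subtype.val (hF (a₁ := ⟨m, h2 hm⟩) (a₂ := 1)
      (by rw [show m' = 1 from Subtype.ext e1, map_one, eq_comm, conj_eq_one_iff] at e'; rw [e', map_one])))
  rw [← show ⟨a, ha⟩ * el ms [0] * ⟨a, ha⟩⁻¹ = ⟨m, h2 hm⟩ from Subtype.ext ea,
    ← show ⟨b, hb⟩ * el ms [0] * ⟨b, hb⟩⁻¹ = m' from Subtype.ext eb] at e'
  simp only [map_mul, map_inv] at e'
  obtain ⟨k, -, e1⟩ := cy (mem_centralizer_singleton_iff.mpr (show (F ⟨b, hb⟩)⁻¹ * d * F ⟨a, ha⟩ * _ = _ by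
    calc _ = (F ⟨b, hb⟩)⁻¹ * (d * (F ⟨a, ha⟩ * F (el ms [0]) * (F ⟨a, ha⟩)⁻¹) * d⁻¹) * d * F ⟨a, ha⟩ := by group
      _ = _ := by rw [← e']; group))
  exact h1 ⟨⟨b, hb⟩ * k * ⟨a, ha⟩⁻¹, mul_mem (mul_mem hb k.2) (inv_mem ha), by rw [map_mul, map_mul, map_inv, e1]; group⟩

theorem Hyp.iso {t c0 : G} {H R V M : Subgroup G} {ρ : H →* Equiv.Perm (Fin 5)} (h : Hyp t c0 H R V M ρ) :
    Cfsg.Spor.IsoHS G := by
  obtain ⟨g, -, S⟩ := h.exists_st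
  obtain ⟨g, -, S, h, a1, a2, a3, a4⟩ := S.exists_h1
  obtain ⟨h, a1, a2, a3⟩ := S.exists_h2 a1 a2 a3 a4
  have LH := S.locH a1 a2 a3
  obtain ⟨F, hF, hw⟩ := S.exists_F LH
  obtain ⟨e⟩ := hs_iso.1
  exact ⟨(MulEquiv.ofBijective F ⟨hF, S.surj_F LH hF hw⟩).symm.trans e⟩

end Cfsg.Agent.HSR
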