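import Cfsg.Agent.HSR.Tools

/-! Standard generators of `GL₃(2)` and coordinates in `C₄ × C₄ × C₄`. -/

set_option autoImplicit false
set_option maxRecDepth 100000

namespace Cfsg.Agent.HSR

open Subgroup MulAction Cfsg.Agent.Mat

/-- Standard generators. -/
structure PreL {L : Type*} [Group L] (X Y S : L) : Prop where
  x7 : X ^ 7 = 1
  x1 : X ≠ 1
  y3 : Y ^ 3 = 1
  yx : Y * X * Y⁻¹ = X ^ 2
  ss : S * S = 1
  sy : S * Y * S⁻¹ = Y⁻¹
  sx : (S * X) ^ 3 = 1
  gen : cl [X, Y, S] = ⊤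

section

variable {L : Type*} [Group L] {X Y S : L}

theorem PreL.inv (h : PreL X Y S) : PreL X⁻¹ Y S where
  x7 := by rw [inv_pow, h.x7, inv_one]
  x1 := inv_ne_one.mpr h.x1
  y3 := h.y3
  yx := by rw [inv_pow, ← h.yx]; group
  ss := h.ss
  sy := h.sy
  sx := by
    have : S * X⁻¹ = S * (S * X)⁻¹ * S⁻¹ := by rw [mul_inv_rev, inv_eq_of_mul_eq_one_right h.ss, mul_assoc, mul_assoc,
      h.ss, mul_one]
    rw [this, conj_pow, inv_pow, h.sx]; simp
  gen := eq_top_iff.mpr (h.gen.ge.trans (cl_le (by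
    simp only [List.forall_mem_cons]
    exact ⟨inv_mem_iff.mp (mem_cl (by simp)), mem_cl (by simp), mem_cl (by simp), by simp⟩)))

theorem PreL.conj (h : PreL X Y S) (g : L) : PreL (g * X * g⁻¹) (g * Y * g⁻¹) (g * S * g⁻¹) where
  x7 := by rw [conj_pow, h.x7]; simp
  x1 := CIT.conj_ne_one h.x1
  y3 := by rw [conj_pow, h.y3]; simp
  yx := by rw [conj_pow, ← h.yx]; group
  ss := CIT.conj_sq h.ss
  sy := by rw [conj_inv, conj_inv, ← h.sy]; group
  sx := by rw [conj_mul, conj_pow, h.sx]; simp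
  gen := by
    have := congrArg (map (MulAut.conj g).toMonoidHom) h.gen
    rw [map_top_of_surjective _ (MulAut.conj g).surjective, cl, MonoidHom.map_closure] at this
    rw [← this, cl]
    congr 1
    ext a
    simp [eq_comm]

end

instance fact8' : Fact (8 ≤ 256) := ⟨by decide⟩

/-- The numbering of the vectors. -/
def eV : (Fin 3 → ZMod 2) ≃ Fin 8 :=
  ⟨fun v => ⟨(v 0).val + 2 * (v 1).val + 4 * (v 2).val, by revert v; decide⟩,
    fun i => ![(i.1 : ZMod 2), (i.1 / 2 : ℕ), (i.1 / 4 : ℕ)], by decide, by decide⟩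

theorem card_GL3 : Nat.card (GL (Fin 3) (ZMod 2)) = 168 := by
  rw [Matrix.card_GL_field, ZMod.card]; decide

theorem exists_preL : ∃ X Y S : GL (Fin 3) (ZMod 2), PreL X Y S := by
  let X : GL (Fin 3) (ZMod 2) := ⟨!![0, 0, 1; 0, 1, 1; 1, 1, 0], !![1, 1, 1; 1, 1, 0; 1, 0, 0], by decide, by decide⟩
  let Y : GL (Fin 3) (ZMod 2) := ⟨!![0, 0, 1; 1, 1, 1; 1, 0, 1], !![1, 0, 1; 0, 1, 1; 1, 0, 0], by decide, by decide⟩
  let S : GL (Fin 3) (ZMod 2) := ⟨!![0, 0, 1; 1, 1, 1; 1, 0, 0], !![0, 0, 1; 1, 1, 1; 1, 0, 0], by decide, by decide⟩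
  refine ⟨X, Y, S, by decide +kernel, by decide +kernel, by decide +kernel, by decide +kernel, by decide +kernel,
    by decide +kernel, by decide +kernel, eq_top_of_card_eq _ (le_antisymm (card_le_card_group _) ?_)⟩
  let φ : GL (Fin 3) (ZMod 2) →* Equiv.Perm (Fin 3 → ZMod 2) := MonoidHom.mk'
    (fun A => ⟨A.1.mulVec, A.2.mulVec, fun v => by rw [Matrix.mulVec_mulVec, A.4, Matrix.one_mulVec],
      fun v => by rw [Matrix.mulVec_mulVec, A.3, Matrix.one_mulVec]⟩)
    fun A B => Equiv.ext fun v => (Matrix.mulVec_mulVec v A.1 B.1).symm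
  let ι : GL (Fin 3) (ZMod 2) →* CP 8 := CP.equiv.toMonoidHom.comp (eV.permCongrHom.toMonoidHom.comp φ)
  have h1 : [X, Y, S].map ι = cpL 8 [0x105070302060400, 0x305010704020600, 0x701050304020600] (by decide +kernel) := by
    decide +kernel
  have h2 := chChk_le (ms := [X, Y, S].map ι) (L := [(1, [0x706050403020100, 0x105070302060400, 0x305010704020600,
    0x407010206050300, 0x207040103060500, 0x601030402050700, 0x301040605070200]), (2, [0x706050403020100,
    0x504020306070100, 0x203070604050100, 0x203040507060100, 0x504060702030100, 0x302070605040100]),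
    (4, [0x706050403020100, 0x405060703020100, 0x607040503020100, 0x504070603020100])])
    (W := [[], [0], [1], [0, 0], [0, 1], [1, 0], [0, 0, 0], [], [0, 1, 0], [1, 0, 1], [1, 2, 0, 1], [0, 0, 2, 0, 1],
      [0, 1, 2, 0, 0], [], [2, 1], [1, 0, 0, 0, 2, 0], [1, 2, 0, 0, 0, 2, 0]]) (by rw [h1]; decide +kernel)
  rw [card_GL3]
  refine le_trans h2 ((card_le_of_le (K := (cl [X, Y, S]).map ι) (cl_le fun a ha => ?_)).trans
    (Nat.le_of_dvd Nat.card_pos (card_map_dvd _ _)))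
  obtain ⟨b, hb, rfl⟩ := List.mem_map.mp ha
  exact mem_map_of_mem ι (mem_cl hb)

/-- Coordinate vectors. -/
abbrev W : Type := ZMod 4 × ZMod 4 × ZMod 4

/-- A linear map on coordinates. -/
def lin (α β γ u : W) : W := u.1.val • α + u.2.1.val • β + u.2.2.val • γ

section

variable {A : Type*} [CommGroup A] {c d e : A}

/-- The element with given coordinates. -/
def K (c d e : A) (u : W) : A := c ^ u.1.val * d ^ u.2.1.val * e ^ u.2.2.val

theorem K_add (h : ∀ a : A, a ^ 4 = 1) (u v : W) : K c d e (u + v) = K c d e u * K c d e v := by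
  have h1 : ∀ (a : A) (i j : ZMod 4), a ^ (i + j).val = a ^ i.val * a ^ j.val := fun a i j => by
    rw [ZMod.val_add, ← pow_eq_pow_mod _ (h a), pow_add]
  simp only [K, Prod.fst_add, Prod.snd_add, h1]
  ac_rfl

theorem K_zero : K c d e 0 = 1 := by simp [K]

theorem K_nsmul (h : ∀ a : A, a ^ 4 = 1) (n : ℕ) (u : W) : K c d e (n • u) = K c d e u ^ n := by
  induction n with
  | zero => simp [K]
  | succ n ih => rw [succ_nsmul, K_add h, ih, pow_succ]

theorem K_c : K c d e (1, 0, 0) = c := by simp [K, show (1 : ZMod 4).val = 1 from rfl]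

theorem K_d : K c d e (0, 1, 0) = d := by simp [K, show (1 : ZMod 4).val = 1 from rfl]

theorem K_e : K c d e (0, 0, 1) = e := by simp [K, show (1 : ZMod 4).val = 1 from rfl]

theorem map_K (h : ∀ a : A, a ^ 4 = 1) (φ : MulAut A) {α β γ : W} (h1 : φ c = K c d e α) (h2 : φ d = K c d e β)
    (h3 : φ e = K c d e γ) (u : W) : φ (K c d e u) = K c d e (lin α β γ u) := by
  rw [lin, K_add h, K_add h, K_nsmul h, K_nsmul h, K_nsmul h, ← h1, ← h2, ← h3, K, map_mul, map_mul, map_pow, map_pow,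
    map_pow]

theorem K_bij [Finite A] (h : ∀ a : A, a ^ 4 = 1) (hc : Nat.card A = 64)
    (hi : ∀ i j k : ℕ, (c * c) ^ i * (d * d) ^ j * (e * e) ^ k = 1 → i % 2 = 0 ∧ j % 2 = 0 ∧ k % 2 = 0) :
    Function.Bijective (K c d e) := by
  refine Function.Injective.bijective_of_nat_card_le ?_ (by simp [hc])
  let κ : Multiplicative W →* A := MonoidHom.mk' (fun u => K c d e u.toAdd) fun u v => K_add h _ _
  refine (injective_iff_map_eq_one κ).mpr fun u hu => ?_
  obtain ⟨i, j, k⟩ := u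
  have h1 : c ^ i.val * d ^ j.val * e ^ k.val = 1 := hu
  have h2 := hi i.val j.val k.val (by
    rw [mul_pow, mul_pow, mul_pow, mul_mul_mul_comm (c ^ i.val), mul_mul_mul_comm (c ^ i.val * _), h1, mul_one])
  have h3 := hi (i.val / 2) (j.val / 2) (k.val / 2) (by
    rw [← pow_two, ← pow_two, ← pow_two, ← pow_mul, ← pow_mul, ← pow_mul, ← h1,
      show 2 * (i.val / 2) = i.val by omega, show 2 * (j.val / 2) = j.val by omega,
      show 2 * (k.val / 2) = k.val by omega])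
  have := i.val_lt; have := j.val_lt; have := k.val_lt
  exact Prod.ext ((ZMod.val_eq_zero i).mp (by omega))
    (Prod.ext ((ZMod.val_eq_zero j).mp (by omega)) ((ZMod.val_eq_zero k).mp (by omega)))

end

theorem poly_chk : ∀ α : W, (lin (0, 1, 0) (0, 0, 1) α)^[7] (1, 0, 0) = (1, 0, 0) → α = (1, 3, 2) ∨
    (lin (0, 1, 0) (0, 0, 1) α)^[18] (1, 0, 0) = (1, 0, 0) + 3 • (lin (0, 1, 0) (0, 0, 1) α)^[6] (1, 0, 0) +
      2 • (lin (0, 1, 0) (0, 0, 1) α)^[12] (1, 0, 0) := by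
  decide +kernel

/-- The matrix of `x`. -/
def lX : W → W := lin (0, 1, 0) (0, 0, 1) (1, 3, 2)

/-- The matrix of `y`. -/
def lY : W → W := lin (1, 0, 0) (0, 0, 1) (lX (1, 3, 2))

/-- The matrix of `s`. -/
def lS : W → W := lin (3, 0, 0) (0, 0, 1) (0, 1, 0)

set_option synthInstance.maxSize 2000 in
theorem s_chk : ∀ α : W, lY α = α → ∀ γ : W, lin α (lY γ) γ γ = (0, 0, 1) →
    (fun u => lin α (lY γ) γ (lX u))^[3] (1, 0, 0) = (1, 0, 0) →
    (fun u => lin α (lY γ) γ (lX u))^[3] (0, 1, 0) = (0, 1, 0) → α = (3, 0, 0) ∧ γ = (0, 1, 0) := by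
  decide +kernel

set_option synthInstance.maxSize 2000 in
theorem s_chk' : (∀ σ : W, lY σ = σ → lS σ = σ → σ = 0 ∨ σ = (1, 0, 0) + (1, 0, 0)) ∧ ∀ τ : W, lS (lX τ) = τ →
    (τ = 0 ∨ τ = (0, 1, 0)) ∨ (1, 0, 0) + lS (lX (1, 0, 0)) + lS (lX (lS (lX (1, 0, 0)))) + τ = 0 ∨
      (1, 0, 0) + lS (lX (1, 0, 0)) + lS (lX (lS (lX (1, 0, 0)))) + τ = (0, 1, 0) := by
  decide +kernel

end Cfsg.Agent.HSR
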