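import Cfsg.Agent.HSR.LeechD

/-! The group `HS` is isomorphic to the permutation model. -/

set_option autoImplicit false
set_option maxRecDepth 100000

namespace Cfsg.Agent.HSR

open Subgroup MulAction Cfsg.Agent.Leech Cfsg.Agent.Mat Cfsg.Spor
open Cfsg.Agent.M11 (idx pt wOf inSpan allSpan allSpan_spec bas mem_golay comp_mem_of_mem testBit_eq_of_wOf)
open scoped Pointwise

theorem wt_spec {c : ℕ} (h : IsCw c) : wt c % 4 = 0 ∧ (c = 0 ∨ 8 ≤ wt c) := by
  simpa using allSpan_spec wt_chk h

theorem sum_split (f : GolayPt → ℤ) :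
    ∑ p, f p = f none + f (some 0) + ∑ p ∈ (Finset.univ.erase none).erase (some 0), f p := by
  rw [add_assoc, Finset.add_sum_erase _ _ (by simp), Finset.add_sum_erase _ _ (Finset.mem_univ _)]

theorem classify {z : GolayPt → ℤ} (hz : z ∈ leechLattice) (h1 : sqNorm z = 32) (h2 : dotInt z vecV = -24)
    (h3 : dotInt z vecU' = 0) : ∃ i < 100, z = vv i := by
  obtain ⟨m, c, hm, hc, h4, -⟩ := exists_norm hz
  have h5 : z none = z (some 0) := by
    rw [dotInt, sum_split, Finset.sum_eq_zero fun p hp => by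
      rw [Finset.mem_erase, Finset.mem_erase] at hp
      simp [vecU', hp.1, hp.2.1]] at h3
    simp [vecU'] at h3
    omega
  have h6 : ∑ p, z p + 4 * z none = 24 := by
    have : ∀ p, z p * vecV p = -z p - if p = none then 4 * z p else 0 := fun p => by
      unfold vecV; split_ifs <;> ring
    simp only [dotInt, this, Finset.sum_sub_distrib, Finset.sum_neg_distrib, Finset.sum_ite_eq', Finset.mem_univ,
      if_true] at h2
    omega
  unfold sqNorm at h1
  rcases hm with rfl | rfl
  · have h7 : ∑ p, z p * (z p - 2) = 8 * z none - 16 := by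
      simp only [mul_sub, ← pow_two, Finset.sum_sub_distrib, ← Finset.sum_mul]; omega
    have h8 : ∀ p, 0 ≤ z p * (z p - 2) := fun p => by
      have := h4 p
      rcases (by omega : z p ≤ 0 ∨ 2 ≤ z p) with e | e <;> nlinarith
    rw [sum_split, ← h5] at h7
    have h9 := Finset.sum_nonneg (s := (Finset.univ.erase none).erase (some 0)) fun p _ => h8 p
    have h10 : z none = 2 ∨ z none = 4 := by
      have := h4 none
      have : 2 ≤ z none := by nlinarith
      have : z none ≤ 4 := by nlinarith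
      omega
    have h11 : ∀ p, p ≠ none → p ≠ some 0 → z p = 2 * bit c p := fun p e1 e2 => by
      have e3 := (Finset.sum_eq_zero_iff_of_nonneg fun p _ => h8 p).mp
        (show ∑ p ∈ (Finset.univ.erase none).erase (some 0), z p * (z p - 2) = 0 by
          rcases h10 with e | e <;> rw [e] at h7 <;> omega) p (by simp [e1, e2])
      have := h4 p; have := bit_cases c p
      rcases mul_eq_zero.mp e3 with e | e <;> omega
    rcases h10 with e | e
    · have h12 : ∀ p, z p = 2 * bit c p := fun p => by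
        have := h4 p; have := bit_cases c p
        by_cases e1 : p = none
        · subst e1; omega
        by_cases e2 : p = some 0
        · subst e2; omega
        exact h11 p e1 e2
      have h13 : wt c = 8 := by
        have := sum_bit c
        simp only [h12, ← Finset.mul_sum] at h6
        have := h12 none
        omega
      have h14 : ∀ p, z p = 2 → c.testBit (idx p) = true := fun p h => by
        have := h12 p
        unfold bit at this
        split_ifs at this with e
        exacts [e, by omega]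
      obtain ⟨i, hi, e1⟩ := oc_chk c (by simpa [h13, memN_iff] using allSpan_spec oct_chk hc) (h14 none e)
        (h14 (some 0) (h5 ▸ e))
      refine ⟨i + 23, by omega, funext fun p => ?_⟩
      rw [vv, if_neg (by omega), if_neg (by omega), Nat.add_sub_cancel, e1, h12]
    · rw [sum_split, ← h5, e] at h6
      have h12 := (Finset.sum_eq_zero_iff_of_nonneg (s := (Finset.univ.erase none).erase (some 0)) (f := z)
        fun p hp => by
          rw [Finset.mem_erase, Finset.mem_erase] at hp
          have := h11 p hp.2.1 hp.1; have := bit_cases c p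
          omega).mp (by linarith)
      refine ⟨0, by omega, funext fun p => ?_⟩
      rw [vv, if_pos rfl]
      split_ifs with e1
      · rcases e1 with rfl | rfl <;> omega
      · exact h12 p (by simpa [and_comm] using e1)
  · have h7 : ∑ p, (z p - 1) ^ 2 = 8 + 8 * z none := by
      have : ∑ p : GolayPt, (1 : ℤ) = 24 := by decide +kernel
      simp only [sub_sq, Finset.sum_add_distrib, Finset.sum_sub_distrib, mul_one, ← Finset.mul_sum, one_pow]
      omega
    have h8 : z none = 1 := by
      have h8 := Finset.card_nsmul_le_sum ((Finset.univ.erase none).erase (some 0)) (fun p => z p ^ 2) 1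
        fun p _ => by have := h4 p; rcases (by omega : z p ≤ -1 ∨ 1 ≤ z p) with e | e <;> nlinarith
      have h9 := Finset.sum_nonneg (s := (Finset.univ.erase none).erase (some 0)) fun p _ => sq_nonneg (z p - 1)
      rw [show ((Finset.univ.erase none).erase (some 0) : Finset GolayPt).card = 22 by decide +kernel] at h8
      rw [sum_split, ← h5] at h1 h7
      have := h4 none
      have : z none ≤ 2 := by rw [nsmul_eq_mul, mul_one, Nat.cast_ofNat] at h8; nlinarith
      have : 0 ≤ z none := by nlinarith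
      omega
    have h9 : c = 0 := (wt_spec hc).2.resolve_right fun e => by
      have := Finset.sum_le_sum (s := Finset.univ) (f := fun p => 4 * bit c p) (g := fun p => (z p - 1) ^ 2)
        fun p _ => by
          have := h4 p
          rcases bit_cases c p with e | e <;> rw [e] at this ⊢
          · positivity
          · rcases (by omega : z p ≤ -1 ∨ 3 ≤ z p) with e | e <;> nlinarith
      rw [← Finset.mul_sum, sum_bit] at this
      omega
    subst h9
    have h10 : ∀ p, (z p - 1) % 4 = 0 := fun p => by simpa [bit] using h4 p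
    have h11 : ∑ p, (z p - 1) * (z p + 3) = 0 := by
      have : ∑ p : GolayPt, (3 : ℤ) = 72 := by decide +kernel
      have h11 : ∀ p, (z p - 1) * (z p + 3) = z p ^ 2 + 2 * z p - 3 := fun p => by ring
      simp only [h11, Finset.sum_add_distrib, Finset.sum_sub_distrib, ← Finset.mul_sum]
      omega
    have h12 := (Finset.sum_eq_zero_iff_of_nonneg fun p _ => by
      have := h10 p
      rcases (by omega : z p ≤ -3 ∨ 1 ≤ z p) with e | e <;> nlinarith).mp h11
    have h13 : ∀ p, z p = 1 ∨ z p = -3 := fun p => by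
      rcases mul_eq_zero.mp (h12 p (Finset.mem_univ _)) with e | e <;> omega
    obtain ⟨k, hk⟩ : ∃ k, z k = -3 := by
      by_contra h
      rw [Finset.sum_eq_zero fun p _ => by rw [(h13 p).resolve_right fun e => h ⟨p, e⟩]; rfl] at h7
      omega
    have h14 : ∀ p, p ≠ k → z p = 1 := fun p hp => (h13 p).resolve_right fun e => by
      have := Finset.sum_le_sum_of_subset_of_nonneg (Finset.subset_univ {p, k}) fun p _ _ => sq_nonneg (z p - 1)
      rw [Finset.sum_pair hp, e, hk] at this
      omega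
    have h15 : k ≠ none ∧ k ≠ some 0 := ⟨fun e => by subst e; omega, fun e => by subst e; omega⟩
    have h16 : 0 < idx k ∧ idx k < 23 := (by decide +kernel : ∀ k : GolayPt, k ≠ none ∧ k ≠ some 0 →
      0 < idx k ∧ idx k < 23) k h15
    refine ⟨idx k, by omega, funext fun p => ?_⟩
    rw [vv, if_neg (by omega), if_pos h16.2]
    split_ifs with e
    · rw [idx_inj e, hk]
    · exact h14 p fun e' => e (e' ▸ rfl)

/-- The hundred vectors in the lattice. -/
def VV (i : Fin 100) : leechLattice := ⟨vv i, (vv_mem i i.2).1.mem⟩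

theorem VV_inj : Function.Injective VV := fun i j e =>
  Fin.ext (vv_inj i i.2 j j.2 (congrFun (congrArg Subtype.val e)))

theorem hs_co0 (g : HS) : g.1 ∈ Co0 := (mem_inf.mp (mem_inf.mp g.2).1).1

theorem hs_V (g : HS) : g.1 leechV = leechV := (mem_inf.mp (mem_inf.mp g.2).1).2

theorem hs_U (g : HS) : g.1 leechU' = leechU' := (mem_inf.mp g.2).2

theorem exists_img (g : HS) (i : Fin 100) : ∃ j, g.1 (VV i) = VV j := by
  obtain ⟨-, h1, h2, h3, -⟩ := vv_mem i i.2
  have h4 := dot_map (hs_co0 g) (VV i) leechV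
  have h5 := dot_map (hs_co0 g) (VV i) leechU'
  rw [hs_V] at h4
  rw [hs_U] at h5
  obtain ⟨j, hj, e⟩ := classify (g.1 (VV i)).2 (((hs_co0 g).2 _).trans h1) (h4.trans h2) (h5.trans h3)
  exact ⟨⟨j, hj⟩, Subtype.ext e⟩

theorem exists_rho : ∃ ρ : HS →* CP 100, ∀ g i, g.1 (VV i) = VV (ρ g • i) := by
  choose f hf using exists_img
  let φ : HS →* Equiv.Perm (Fin 100) := MonoidHom.mk' (fun g => Equiv.ofBijective (f g)
    (Finite.injective_iff_bijective.mp fun i j e => VV_inj (g.1.injective (by rw [hf, hf, e]))))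
    fun a b => Equiv.ext fun i => VV_inj (by
      show VV (f (a * b) i) = VV (f a (f b i))
      rw [← hf, ← hf, ← hf]; rfl)
  refine ⟨CP.equiv.toMonoidHom.comp φ, fun g i => ?_⟩
  show _ = VV (CP.equiv.symm (CP.equiv (φ g)) i)
  rw [hf, MulEquiv.symm_apply_apply]
  rfl

theorem coord_eq (z : GolayPt → ℤ) (p : GolayPt) : 8 * z p =
    if p = none then dotInt z (vv 0) + dotInt z vecU' else if p = some 0 then dotInt z (vv 0) - dotInt z vecU'
    else -2 * dotInt z vecV - 2 * dotInt z (vv (idx p)) - dotInt z (vv 0) - dotInt z vecU' := by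
  have h : ∀ p q, (if p = none then vv 0 q + vecU' q else if p = some 0 then vv 0 q - vecU' q
      else -2 * vecV q - 2 * vv (idx p) q - vv 0 q - vecU' q) = if q = p then 8 else 0 := by decide +kernel
  have h1 : 8 * z p = ∑ q, z q * if q = p then 8 else 0 := by simp [mul_comm]
  rw [h1]
  simp only [← h p, dotInt, Finset.mul_sum, ← Finset.sum_add_distrib, ← Finset.sum_sub_distrib]
  split_ifs <;> exact Finset.sum_congr rfl fun q _ => by ring

theorem exists_sigma {ρ : HS →* CP 100} (hρ : ∀ g i, g.1 (VV i) = VV (ρ g • i)) {g : HS}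
    (hg : ρ g • (0 : Fin 100) = 0) : ∃ σ ∈ M22, (∀ (z : leechLattice) p, (g.1 z).1 (σ p) = z.1 p) ∧
      (ρ g = 1 → σ = 1) := by
  have h0 : ∀ p : GolayPt, idx p < 100 := by decide +kernel
  let f : GolayPt → GolayPt := fun p => if p = none ∨ p = some 0 then p else pt (ρ g • (⟨idx p, h0 p⟩ : Fin 100)).1
  have d := dot_map (hs_co0 g)
  have d0 : ∀ z : leechLattice, dotInt (g.1 z).1 (vv 0) = dotInt z.1 (vv 0) := fun z => by
    have := d z (VV 0); rwa [hρ, hg] at this
  have d1 : ∀ z : leechLattice, dotInt (g.1 z).1 vecV = dotInt z.1 vecV := fun z => by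
    have := d z leechV; rwa [hs_V] at this
  have d2 : ∀ z : leechLattice, dotInt (g.1 z).1 vecU' = dotInt z.1 vecU' := fun z => by
    have := d z leechU'; rwa [hs_U] at this
  have h1 : ∀ (z : leechLattice) p, (g.1 z).1 (f p) = z.1 p := fun z p => by
    have h2 := coord_eq z.1 p
    have h3 := coord_eq (g.1 z).1 (f p)
    rw [d0, d1, d2] at h3
    by_cases e : p = none ∨ p = some 0
    · rw [show f p = p from if_pos e] at h3 ⊢
      rcases e with rfl | rfl <;> simp at h2 h3 <;> omega
    · have h4 := d0 (VV ⟨idx p, h0 p⟩)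
      have h5 := d z (VV ⟨idx p, h0 p⟩)
      rw [hρ] at h4 h5
      rw [show f p = _ from if_neg e] at h3 ⊢
      generalize ρ g • (⟨idx p, h0 p⟩ : Fin 100) = j at *
      have h6 := (vv_mem j j.2).2.2.2.2.mp (h4.trans ((vv_mem _ (h0 p)).2.2.2.2.mpr
        ((by decide +kernel : ∀ p : GolayPt, ¬ (p = none ∨ p = some 0) → 0 < idx p ∧ idx p < 23) p e)))
      have h7 := (by decide +kernel : ∀ j < 23, 0 < j → pt j ≠ none ∧ pt j ≠ some 0 ∧ idx (pt j) = j) j h6.2 h6.1
      rw [not_or] at e
      rw [if_neg e.1, if_neg e.2] at h2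
      rw [if_neg h7.1, if_neg h7.2.1, h7.2.2, show dotInt (g.1 z).1 (vv j) = dotInt z.1 (vv (idx p)) from h5] at h3
      omega
  have h2 : Function.Injective f := fun p q e => by
    have h2 : inL fun r => if r = p then 8 else 0 := by clear e; revert p; decide +kernel
    have h3 := h1 ⟨_, h2.mem⟩ q
    rw [← e, h1] at h3
    by_contra h4
    simp [Ne.symm h4] at h3
  refine ⟨Equiv.ofBijective f (Finite.injective_iff_bijective.mp h2), mem_inf.mpr ⟨mem_inf.mpr ⟨?_,
    (if_pos (.inl rfl) : f none = none)⟩, (if_pos (.inr rfl) : f (some 0) = some 0)⟩, h1, fun e => Equiv.ext fun p => ?_⟩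
  · rw [mem_stabilizer_set_iff_smul_set_subset (Set.toFinite _)]
    rintro _ ⟨s, hs, rfl⟩
    obtain ⟨c, hc, h3⟩ := mem_supports.mp hs
    have h4 : (fun p => 2 * bit c p) ∈ leechLattice := mem_leech.mpr ⟨0, c, hc, fun p => by simp, by
      have := (wt_spec hc).1
      rw [← Finset.mul_sum, sum_bit]; omega⟩
    obtain ⟨m, c', hm, hc', h5, -⟩ := exists_norm (g.1 ⟨_, h4⟩).2
    refine mem_supports.mpr ⟨c', hc', fun q => ?_⟩
    obtain ⟨p, rfl⟩ := (Equiv.ofBijective f (Finite.injective_iff_bijective.mp h2)).surjective q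
    refine (Finset.smul_mem_smul_finset_iff _).trans ((h3 p).trans ?_)
    have h6 := h5 (f p)
    rw [h1] at h6
    have := bit_cases c p; have := bit_cases c' (f p)
    show _ ↔ bit c' (f p) = 1
    dsimp only at h6
    omega
  · show f p = p
    simp only [f, e, one_smul, pt_idx, ite_self]

theorem exists_perm {σ : Equiv.Perm GolayPt} (hσ : σ ∈ M24) :
    ∃ g ∈ Co0, ∀ (x : leechLattice) p, (g x).1 (σ p) = x.1 p := by
  have h : ∀ σ ∈ M24, ∀ x ∈ leechLattice, x ∘ (Equiv.symm σ) ∈ leechLattice := fun σ hσ x hx => by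
    obtain ⟨m, c, h1, h2, h3⟩ := mem_leech.mp hx
    obtain ⟨c', h4, h5⟩ := mem_golay.mp (comp_mem_of_mem hσ (mem_golay.mpr ⟨c, h1, rfl⟩))
    refine mem_leech.mpr ⟨m, c', h4, fun p => ?_, by rwa [← Equiv.sum_comp σ.symm] at h3⟩
    have := h2 (σ.symm p)
    rwa [bit, testBit_eq_of_wOf (congrFun h5 p)] at this
  refine ⟨⟨fun x => ⟨_, h σ hσ x x.2⟩, fun x => ⟨_, h σ⁻¹ (inv_mem hσ) x x.2⟩, fun x => Subtype.ext (funext fun p => ?_),
    fun x => Subtype.ext (funext fun p => ?_)⟩, ⟨fun _ _ => rfl, fun x => Equiv.sum_comp σ.symm fun p => x.1 p ^ 2⟩,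
    fun x p => ?_⟩
  · exact congrArg x.1 (σ.symm_apply_apply p)
  · exact congrArg x.1 (σ.apply_symm_apply p)
  · exact congrArg x.1 (σ.symm_apply_apply p)

theorem hs_iso : Nonempty (cl ms ≃* HS) ∧ Nat.card (cl ms) = 44352000 := by
  obtain ⟨ρ, hρ⟩ := exists_rho
  have h1 : Function.Injective ρ := (injective_iff_map_eq_one ρ).mpr fun g hg => by
    obtain ⟨σ, -, h1, h2⟩ := exists_sigma hρ (g := g) (by rw [hg, one_smul])
    rw [h2 hg] at h1
    exact Subtype.ext (Equiv.ext fun z => Subtype.ext (funext (h1 z)))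
  have h2 : Nat.card ρ.range ≤ 44352000 := by
    refine (card_le_step (b := (0 : Fin 100)) (List.finRange 100) fun _ _ => List.mem_finRange _).trans ?_
    have h2 : ∀ x : ↥(ρ.range ⊓ stabilizer (CP 100) (0 : Fin 100)), ∃ σ : M22, ∃ g : HS, ρ g = x ∧
        ∀ (z : leechLattice) p, (g.1 z).1 (σ.1 p) = z.1 p := fun x => by
      obtain ⟨g, hg⟩ := (mem_inf.mp x.2).1
      obtain ⟨σ, h2, h3, -⟩ := exists_sigma hρ (g := g) (by rw [hg]; exact (mem_inf.mp x.2).2)
      exact ⟨⟨σ, h2⟩, g, hg, h3⟩
    choose f g h2 h3 using h2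
    have h4 := Nat.card_le_card_of_injective f fun x y e => Subtype.ext (by
      rw [← h2, ← h2, show g x = g y from Subtype.ext (Equiv.ext fun z => Subtype.ext (funext fun p => by
        obtain ⟨q, rfl⟩ := (f x).1.surjective p
        rw [h3, e, h3]))])
    have h5 := card_X22_le
    rw [X22, card_map_eM] at h5
    rw [List.length_finRange]
    omega
  have h3 : ∀ (a : ℕ) (g : HS), (∀ i : Fin 100, (g.1 (VV i)).1 = vv (lk (ms.getD a 1).1 i)) →
      ms.getD a 1 ∈ ρ.range := fun a g h => ⟨g, eq_of_smul_eq_smul (α := Fin 100) fun i => VV_inj (by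
    rw [← hρ]
    exact Subtype.ext ((h i).trans (congrArg vv (CP.smul_val _ _).symm)))⟩
  have h4 : ∀ a ∈ [0, 2, 4, 13, 14], ms.getD a 1 ∈ ρ.range := fun a ha => by
    by_cases e : a = 14
    · obtain ⟨g, h4, h5⟩ := exists_Co0 mc_good mc_good' mc_orth
      exact e ▸ h3 14 ⟨g, mem_inf.mpr ⟨mem_inf.mpr ⟨h4, Subtype.ext ((h5 _).trans (funext mc_act.1))⟩,
        Subtype.ext ((h5 _).trans (funext mc_act.2.1))⟩⟩ fun i => (h5 _).trans (funext (mc_act.2.2 i i.2))
    · obtain ⟨b, hb, rfl⟩ := (by decide : ∀ a ∈ [0, 2, 4, 13, 14], a ≠ 14 → ∃ b ∈ pcs, b.1 = a) a ha e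
      obtain ⟨h4, h5, h6⟩ := pcs_chk b hb
      have h7 := mem_map_equiv.mp (in22_spec ⟨b.2, valid_spec h4⟩ h5)
      have h8 := idx_eM ⟨b.2, valid_spec h4⟩
      generalize eM.symm ⟨b.2, valid_spec h4⟩ = σ at h7 h8
      have e1 : σ none = none := (mem_inf.mp (mem_inf.mp h7).1).2
      have e2 : σ (some 0) = some 0 := (mem_inf.mp h7).2
      obtain ⟨g, h9, h10⟩ := exists_perm (mem_inf.mp (mem_inf.mp h7).1).1
      have e3 : ∀ p, σ p = none ↔ p = none := fun p => by rw [← e1, σ.injective.eq_iff, e1]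
      have e4 : ∀ p, σ p = some 0 ↔ p = some 0 := fun p => by rw [← e2, σ.injective.eq_iff, e2]
      refine h3 _ ⟨g, mem_inf.mpr ⟨mem_inf.mpr ⟨h9, Subtype.ext (funext fun p => ?_)⟩,
        Subtype.ext (funext fun p => ?_)⟩⟩ fun i => funext fun p => ?_ <;> obtain ⟨q, rfl⟩ := σ.surjective p
      · exact (h10 _ q).trans (by simp [leechV, vecV, e3])
      · exact (h10 _ q).trans (by simp [leechU', vecU', e3, e4])
      · exact (h10 _ q).trans (by rw [← pt_idx (σ q), h8, h6 i i.2]; rfl)
  have h5 : cl ms ≤ ρ.range := cl_le fun x hx => by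
    obtain ⟨w, hw, rfl⟩ := List.mem_map.mp (ms_eq5 ▸ hx)
    have h5 := (by decide : ∀ w ∈ us5, ∀ a ∈ w, a ∈ [0, 2, 4, 13, 14]) w hw
    clear hx hw
    induction w with
    | nil => exact one_mem _
    | cons a w ih => exact mul_mem (h4 a (h5 a List.mem_cons_self)) (ih fun b hb => h5 b (List.mem_cons_of_mem _ hb))
  have h6 := eq_of_le_of_card_ge h5 (h2.trans card_ms)
  exact ⟨⟨(MulEquiv.subgroupCongr h6).trans (ρ.ofInjective h1).symm⟩, le_antisymm (h6 ▸ h2) card_ms⟩

end Cfsg.Agent.HSR
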