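import Cfsg.Agent.HSR.Pass

/-! Small checks in the model. -/

set_option autoImplicit false
set_option maxRecDepth 100000

namespace Cfsg.Agent.HSR

open Subgroup MulAction Cfsg.Agent.Mat

/-- Letters generating the normal subgroup. -/
def gR : List ℕ := [14, 15, 6, 7, 8, 9]

/-- Letters generating an elementary abelian subgroup. -/
def gA : List ℕ := [5, 6, 7, 10]

/-- A change of generators. -/
def usT : List (List ℕ) := [[0], [1], [2], [3], [4], [5], [6], [7], [8], [9], [10, 4, 4], [5, 5, 11]]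

theorem ov_chk : (∀ u ∈ usM, Ov usM u) ∧ (∀ u ∈ usH, Ov usH u) ∧ (∀ u ∈ wC, Ov usM u) ∧ (∀ u ∈ wS0 ++ wS1, Ov usM u) ∧
    (∀ u ∈ wS0, ∀ a ∈ u, a ∈ gR) ∧ (∀ u ∈ wA, ∀ a ∈ u, a ∈ gA) ∧ (∀ u ∈ wV, ∀ a ∈ u, a ∈ [5, 6, 8]) ∧
    (∀ u ∈ wQ1, ∀ a ∈ u, a ∈ [4, 5, 6, 7, 8, 9]) ∧ (∀ r ∈ relsP, Ov usM r ∧ Ov usH r) ∧
    (∀ r ∈ relsG, Ov usM r ∨ Ov usH r) ∧ wS0.length = 64 ∧ wV.Nodup := by decide +kernel

theorem tr_chk : ∀ u ∈ wS0 ++ wS1, ∃ z ∈ wC, ev ms (u ++ [0] ++ (u ++ [0]) ++ (u ++ [0])) = ev ms z := by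
  decide +kernel

theorem s1_chk : ∀ u ∈ wS1, ev ms (u ++ [4] ++ (u ++ [4])) ≠ ev ms ([4] ++ u ++ ([4] ++ u)) ∨
    ev ms ([0] ++ u ++ [1] ++ [4] ++ ([0] ++ u ++ [1] ++ [4])) ≠
      ev ms ([4] ++ ([0] ++ u ++ [1]) ++ ([4] ++ ([0] ++ u ++ [1]))) := by decide +kernel

theorem v_chk : ∀ u ∈ wV, ∀ u' ∈ wV, ev ms u = ev ms u' → u = u' := by decide +kernel

theorem a_chk : ∀ u ∈ wS0, ev ms (u ++ u) = ev ms [] → ev ms (u ++ [0] ++ (u ++ [0]) ++ (u ++ [0])) = ev ms [] →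
    (ev ms ([6] ++ ([0] ++ u ++ [1])) = ev ms ([0] ++ u ++ [1] ++ [6]) ↔ ev ms (u ++ [8]) = ev ms ([8] ++ u)) →
    u ∈ [[], [6], [8], [6, 8]] ∨ u = [7] ∨ u = [14, 14, 6, 7] := by decide +kernel

theorem usT_chk : ∀ r ∈ relsB ++ [[10, 10], [10, 2, 10, 2, 10, 2]], ev (usT.map (ev msB)) r = 1 := by decide +kernel

theorem nR_chk : ∀ a ∈ [4, 7, 17], ∀ j ∈ gR, ∃ u ∈ wS0, ev ms [a, j] = ev ms (u ++ [a]) := by decide +kernel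

theorem nh_chk : ∀ p ∈ [(14, 15), (15, 14), (6, 7), (7, 6), (8, 9), (9, 8)],
    ev ms [13, p.1] = ev ms ([p.2] ++ [13]) := by decide +kernel

theorem nA_chk : ∀ a ∈ [13, 11, 12, 14, 16], ∀ j ∈ gA, ∃ u ∈ wA, ev ms [a, j] = ev ms (u ++ [a]) := by
  decide +kernel

theorem e_chk : ∀ w ∈ [[13, 11], [12, 13, 12, 13, 14, 16]], ∀ u ∈ wA, ev ms w * ev ms u = ev ms u * ev ms w → u = [] := by
  decide +kernel

theorem h_chk : ev ms [7, 17, 4, 7, 17, 13, 7, 17, 4, 7, 17, 13, 7, 17, 4, 7, 17, 13] = 1 ∧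
    ev ms [4, 13, 4, 13] = ev ms [5] ∧ ∀ j ∈ gR, ev ms [5] * ev ms [j] = ev ms [j] * ev ms [5] := by decide +kernel

theorem xs_chk : (∀ a ∈ xs, a * ev ms [0] = ev ms [0] * a) ∧ ev xs [1, 1] = ev ms [5] := by decide +kernel

theorem perm_chk : ∀ σ : Equiv.Perm (Fin 5), σ * σ * σ = 1 → σ ≠ 1 → ∀ τ : Equiv.Perm (Fin 5), τ * τ = 1 →
    (∃ γ, γ * γ = τ) ∨ ∃ γ, γ * τ * γ⁻¹ * σ = σ * (γ * τ * γ⁻¹) := by decide +kernel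

end Cfsg.Agent.HSR
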