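import Cfsg.Agent.HSR.Pre
import Cfsg.Agent.HSR.ModelF

/-! Transfer of local facts from the model. -/

set_option autoImplicit false
set_option linter.unusedSectionVars false
set_option maxRecDepth 100000

namespace Cfsg.Agent.HSR

open Subgroup MulAction Cfsg.Agent.Mat Cfsg.Agent.Local

attribute [local irreducible] cmul cinv pack ms msM msH msB m1 xs ps

variable {G : Type*} [Group G] [Finite G]

theorem ev_nil (gs : List G) : ev gs [] = 1 := rfl

theorem ev_one (gs : List G) (a : ℕ) : ev gs [a] = gs.getD a 1 := mul_one _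

theorem comm_words {gs : List G} {Γ : List ℕ} {z : G} (h : ∀ a ∈ Γ, z * ev gs [a] = ev gs [a] * z) {u : List ℕ}
    (hu : ∀ a ∈ u, a ∈ Γ) : z * ev gs u = ev gs u * z := by
  induction u with
  | nil => simp [ev]
  | cons a u ih =>
    have := h a (hu a List.mem_cons_self)
    rw [ev_one] at this
    rw [ev, ← mul_assoc, this, mul_assoc, ih fun b hb => hu b (List.mem_cons_of_mem _ hb), mul_assoc]

theorem mem_words {gs : List G} {Γ : List ℕ} {K : Subgroup G} {z : G} (h : ∀ a ∈ Γ, z * ev gs [a] * z⁻¹ ∈ K)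
    {u : List ℕ} (hu : ∀ a ∈ u, a ∈ Γ) : z * ev gs u * z⁻¹ ∈ K := by
  induction u with
  | nil => simpa [ev] using one_mem K
  | cons a u ih =>
    have := h a (hu a List.mem_cons_self)
    rw [ev_one] at this
    rw [ev, ← conj_mul]
    exact mul_mem this (ih fun b hb => hu b (List.mem_cons_of_mem _ hb))

/-- A local subgroup agrees with the model. -/
structure Loc (us : List (List ℕ)) (K : Subgroup G) (gs : List G) : Prop where
  tr : ∀ {w w'}, Ov us w → Ov us w' → (ev ms w = ev ms w' ↔ ev gs w = ev gs w')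
  cover : ∀ a ∈ K, ∃ w, Ov us w ∧ ev gs w = a ∧ ev ms w ∈ cl (us.map (ev ms))
  mem : ∀ {w}, Ov us w → ev gs w ∈ K

theorem Loc.of_tr {us : List (List ℕ)} {K : Subgroup G} {gs : List G} (h0 : ∀ u ∈ us, Ov us u)
    (h : Tr (us.map (ev ms)) (us.map (ev gs))) (hK : cl (us.map (ev gs)) = K) : Loc us K gs := by
  refine ⟨fun a b => ?_, fun a ha => ?_, fun a => ?_⟩
  · rw [← a.ev_eq ms, ← b.ev_eq ms, ← a.ev_eq gs, ← b.ev_eq gs]; exact h _ _
  · obtain ⟨w, rfl⟩ := exists_word (hK ▸ ha)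
    refine ⟨w.flatMap (us.getD · []), fun b hb => ?_, (ev_map_ev _ _ _).symm, ev_map_ev ms us w ▸ ev_mem_cl _ _⟩
    obtain ⟨i, -, hi⟩ := List.mem_flatMap.mp hb
    rw [List.getD_eq_getElem?_getD] at hi
    cases e : us[i]? with
    | none => simp [e] at hi
    | some u => exact h0 u (List.mem_of_getElem? e) b (by simpa [e] using hi)
  · rw [← a.ev_eq gs, ← hK]; exact ev_mem_cl _ _

namespace Loc

variable {us : List (List ℕ)} {K : Subgroup G} {gs : List G} (L : Loc us K gs)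
include L

theorem eq (w w' : List ℕ) (h : Ov us w ∧ Ov us w' ∧ ev ms w = ev ms w' := by decide +kernel) : ev gs w = ev gs w' :=
  (L.tr h.1 h.2.1).mp h.2.2

theorem ne (w w' : List ℕ) (h : Ov us w ∧ Ov us w' ∧ ev ms w ≠ ev ms w' := by decide +kernel) : ev gs w ≠ ev gs w' :=
  fun e => h.2.2 ((L.tr h.1 h.2.1).mpr e)

theorem cm {w u : List ℕ} (hw : Ov us w) (hu : Ov us u) (h : ev gs w * ev gs u = ev gs u * ev gs w) :
    ev ms w * ev ms u = ev ms u * ev ms w := by
  simpa only [ev_append] using (L.tr (hw.append hu) (hu.append hw)).mpr (by simpa only [ev_append] using h)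

theorem sq {w u : List ℕ} (hw : Ov us w) (hu : Ov us u) (h : ev gs w * ev gs w = ev gs u) :
    ev ms w * ev ms w = ev ms u := by
  simpa only [ev_append] using (L.tr (hw.append hw) hu).mpr (by simpa only [ev_append] using h)

end Loc

namespace Gn

variable (g : Gn G)

/-- A conjugate of `t`. -/
def v : G := g.x * g.t * g.x⁻¹

/-- An involution. -/
def r : G := g.x * g.y * g.x * g.s * g.x * g.y

/-- A conjugate of `t`. -/
def w : G := g.y * g.v * g.y⁻¹

/-- An involution. -/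
def q : G := g.y * g.r * g.y⁻¹

/-- The letters. -/
def l (h : G) : List G := [g.y, g.y⁻¹, g.x, g.x⁻¹, g.s, g.t, g.v, g.r, g.w, g.q, g.y⁻¹ * g.s, g.x * g.s, (g.x * g.s)⁻¹,
  h, g.c, g.c⁻¹, g.d, g.d⁻¹, g.e, g.e⁻¹]

theorem l_one : usB.map (ev g.bl) = g.l 1 := by
  simp [usB, ev, bl, l, t, v, r, w, q, mul_assoc]

theorem l_usM (h : G) : usM.map (ev (g.l h)) = g.l 1 := by
  simp [usM, ev, l]

end Gn

namespace Hyp

variable {t c0 : G} {H R V M : Subgroup G} {ρ : H →* Equiv.Perm (Fin 5)} (h : Hyp t c0 H R V M ρ)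
include h

theorem ti : t⁻¹ = t := inv_eq_of_mul_eq_one_right h.tt

theorem inv : Hyp t c0⁻¹ H R V M ρ :=
  { h with
    c0R := inv_mem h.c0R
    c0c := fun a ha => (Commute.inv_left (h.c0c a ha)).eq
    c00 := by rw [← mul_inv_rev, h.c00, h.ti]
    zen := fun z hz e => by rw [inv_inv]; have := h.zen z hz e; tauto }

theorem ni : c0⁻¹ ≠ c0 := fun e => h.ne (by rw [← h.c00]; nth_rw 1 [← e]; exact inv_mul_cancel _)

theorem cc {k : G} (hk : k ∈ H) : k * c0 * k⁻¹ = c0 ∨ k * c0 * k⁻¹ = c0⁻¹ := by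
  have h1 : k * c0 * k⁻¹ * (k * c0 * k⁻¹) = t := by rw [conj_mul, h.c00, (h.memH k).mp hk, mul_inv_cancel_right]
  rcases h.zen _ (h.norm k hk _ h.c0R) (fun a ha => by
    have := h.c0c _ (h.norm _ (inv_mem hk) a ha)
    calc _ = k * (c0 * (k⁻¹ * a * k⁻¹⁻¹)) * k⁻¹ := by group
      _ = _ := by rw [this]; group) with e | e | e | e
  · rw [e, one_mul] at h1; exact absurd h1.symm h.ne
  · rw [e, h.tt] at h1; exact absurd h1.symm h.ne
  exacts [.inl e, .inr e]

theorem sq_cent {k : G} (hk : k ∈ H) : k * k * c0 = c0 * (k * k) := mul_inv_eq_iff_eq_mul.mp (by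
  rw [show k * k * c0 * (k * k)⁻¹ = k * (k * c0 * k⁻¹) * k⁻¹ by group]
  rcases h.cc hk with e | e
  · rw [e, e]
  · rw [e, ← conj_inv, e, inv_inv])

theorem RM : R ≤ M := fun a ha => h.hM ▸ mem_normalizer_fintype fun v hv => by
  rcases h.comm a ha v (h.VR hv) with e | e <;> rw [e]
  · rwa [mul_inv_cancel_right]
  · rw [mul_assoc v, (h.memH a).mp (h.RH ha), ← mul_assoc, mul_inv_cancel_right]
    exact mul_mem hv h.tV

theorem four {a : G} (ha : a ∈ R) : a * a * a * a = 1 := by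
  rw [mul_assoc]
  rcases h.sq a ha with e | e <;> rw [e]
  exacts [one_mul 1, h.tt]

theorem y_c {y : G} (hy : y ∈ H) (y3 : y * y * y = 1) : c0 * y = y * c0 := by
  have := h.sq_cent (mul_mem hy hy)
  rw [← mul_assoc (y * y), y3, one_mul] at this
  exact this.symm

end Hyp

/-- The hypotheses together with generators. -/
structure St (g : Gn G) (H R V M : Subgroup G) (ρ : H →* Equiv.Perm (Fin 5)) : Prop
    extends Hyp g.t g.c H R V M ρ where
  gen : cl g.bl = M
  rels : ∀ r ∈ relsB ++ [[10, 10], [10, 2, 10, 2, 10, 2]], ev g.bl r = 1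

theorem locM {g : Gn G} {M : Subgroup G} (gen : cl g.bl = M) (hM : Nat.card M = 10752)
    (rels : ∀ r ∈ relsB ++ [[10, 10], [10, 2, 10, 2, 10, 2]], ev g.bl r = 1) (h : G) :
    Tr msB g.bl ∧ Tr msM (g.l 1) ∧ Loc usM M (g.l h) := by
  have hl : msB.length = g.bl.length := by unfold msB; rfl
  have t1 : Tr msB g.bl := tr_of_pres hl presB0 card_msB (by rw [gen, hM]) relsB_msB rels
  have t2 := t1.map usB
  rw [← msM_eq, g.l_one] at t2
  refine ⟨t1, t2, .of_tr ov_chk.1 (by rwa [← msM_eq', g.l_usM]) (eq_of_le_of_card_ge ?_ ?_)⟩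
  · rw [g.l_usM, ← g.l_one, ← gen]
    exact cl_le fun x hx => by obtain ⟨w, -, rfl⟩ := List.mem_map.mp hx; exact ev_mem_cl _ _
  · rw [g.l_usM, ← t2.card_eq (by unfold msM; rfl), card_msM, hM]

theorem Loc.m1 {M : Subgroup G} {g : Gn G} {h : G} (L : Loc usM M (g.l h)) {a : G} (ha : a ∈ M)
    (e : a * g.y = g.y * a) (e4 : a * a * a * a = 1) : a = 1 ∨ a = g.c ∨ a = g.t ∨ a = g.c⁻¹ := by
  obtain ⟨w, o, rfl, hm⟩ := L.cover a ha
  obtain ⟨u, hu, e'⟩ := (passM (msM_eq' ▸ hm)).1 (L.cm o (by decide) (by simpa [ev, Gn.l] using e)) (by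
    simpa only [ev_append, ev_nil] using (L.tr (((o.append o).append o).append o) (w' := []) (by decide)).mpr
      (by simpa only [ev_append, ev_nil] using e4))
  rw [(L.tr o (ov_chk.2.2.1 u hu)).mp e']
  revert u
  simp [wC, ev, Gn.l]

theorem Loc.m2 {M : Subgroup G} {g : Gn G} {h : G} (L : Loc usM M (g.l h)) {a : G} (ha : a ∈ M)
    (e : a * g.c = g.c * a) (e2 : a * a = 1 ∨ a * a = g.t) : ∃ u ∈ wS0 ++ wS1, ev (g.l h) u = a := by
  obtain ⟨w, o, rfl, hm⟩ := L.cover a ha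
  obtain ⟨u, hu, e'⟩ : ∃ u ∈ wS0 ++ wS1, ev ms w = ev ms u := by
    simpa only [List.mem_append, or_and_right, exists_or] using (passM (msM_eq' ▸ hm)).2.1
      (L.cm o (by decide) (by simpa [ev, Gn.l] using e))
      (e2.imp (L.sq o (u := []) (by decide)) fun e => L.sq o (by decide) (by simpa [ev, Gn.l] using e))
  exact ⟨u, hu, ((L.tr o (ov_chk.2.2.2.1 u hu)).mp e').symm⟩

theorem Loc.m3 {M : Subgroup G} {g : Gn G} {h : G} (L : Loc usM M (g.l h)) {a : G} (ha : a ∈ M)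
    (e : a * g.x = g.x * a) (e2 : a * g.t = g.t * a) : a = 1 := by
  obtain ⟨w, o, rfl, hm⟩ := L.cover a ha
  exact (L.tr o (w' := []) (by decide)).mp ((passM (msM_eq' ▸ hm)).2.2.1
    (L.cm o (by decide) (by simpa [ev, Gn.l] using e)) (L.cm o (by decide) (by simpa [ev, Gn.l] using e2)))

theorem Hyp.exists_st {t c0 : G} {H R V M : Subgroup G} {ρ : H →* Equiv.Perm (Fin 5)} (h : Hyp t c0 H R V M ρ) :
    ∃ g : Gn G, g.t = t ∧ St g H R V M ρ := by
  obtain ⟨g, rfl, gen, -, cm, hr⟩ := h.base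
  have b1 : ∀ r ∈ relsB, ev g.bl r = 1 := fun r hr' => hr.elim (fun e => e r (List.mem_append_left _ hr'))
    fun e => e r (List.mem_append_left _ hr')
  have yc : g.y * g.c = g.c * g.y := by
    simpa [ev, Gn.bl, ← mul_assoc, mul_inv_eq_one, mul_inv_eq_iff_eq_mul] using b1 [0, 4, 1, 5] (by decide)
  have yH : g.y ∈ H := (h.memH _).mpr (Commute.mul_right yc yc).eq
  have cy := h.y_c yH (by simpa [ev, Gn.bl, ← mul_assoc] using b1 [0, 0, 0] (by decide))
  have b2 : (c0 = 1 ∨ c0 = g.c ∨ c0 = g.t ∨ c0 = g.c⁻¹) → Hyp g.t g.c H R V M ρ := by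
    rintro (e | e | e | e)
    · exact absurd (by rw [← h.c00, e, one_mul]) h.ne
    · exact e ▸ h
    · exact absurd (by rw [← h.c00, e, h.tt]) h.ne
    · simpa [e] using h.inv
  rcases hr with hr | hr
  · exact ⟨g, rfl, b2 ((locM gen h.cardM hr 1).2.2.m1 (h.RM h.c0R) cy (h.four h.c0R)), gen, hr⟩
  exfalso
  have T : Tr m1 g.bl := tr_of_pres (by unfold m1; rfl) presB1 card_m1 (by rw [gen, h.cardM]) relsB_m1 hr
  have wd : ∀ a ∈ R, ∃ w, ev g.bl w = a := fun a ha => exists_word (gen ▸ h.RM ha)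
  have h' : Hyp g.t g.c H R V M ρ := by
    obtain ⟨w, e⟩ := wd _ h.c0R
    obtain ⟨u, hu, e'⟩ := (pass1 w rfl).1 (by
      simpa only [ev_append] using (T (w ++ ([0] : List ℕ)) (([0] : List ℕ) ++ w)).mpr (by
        simp only [ev_append, e]; simpa [ev, Gn.bl] using cy)) (by
      simpa only [ev_append, ev_nil] using (T (w ++ w ++ w ++ w) []).mpr (by
        simpa only [ev_append, e, ev_nil] using h.four h.c0R))
    refine b2 ?_
    rw [← e, (T _ _).mp e']
    revert u
    simp [wC1, ev, Gn.bl, Gn.t]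
  have ss : g.s * g.s = 1 := by simpa [ev, Gn.bl] using hr [10, 10] (by decide)
  have si := inv_eq_of_mul_eq_one_right ss
  have sc : g.s * g.c * g.s⁻¹ = g.c⁻¹ := eq_inv_of_mul_eq_one_left (by
    simpa [ev, Gn.bl, ← mul_assoc] using b1 [10, 4, 11, 4] (by decide))
  have sH : g.s ∈ H := (h.memH _).mpr (mul_inv_eq_iff_eq_mul.mp (by
    rw [Gn.t, ← conj_mul, sc, ← mul_inv_rev]; exact h.ti))
  have b3 : ∀ a ∈ R, ∃ u ∈ wQ1, ev g.bl u = a := fun a ha => by
    obtain ⟨w, e⟩ := wd a ha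
    have b4 := h.comm a ha _ (h.norm _ sH a ha)
    rw [si] at b4
    let z : List ℕ := [10]
    obtain ⟨u, hu, e'⟩ := (pass1 w rfl).2 (by
      simpa only [ev_append] using (T (w ++ ([4] : List ℕ)) (([4] : List ℕ) ++ w)).mpr
        (by simp only [ev_append, e]; simpa [ev, Gn.bl] using (h'.c0c a ha).symm))
      ((h.sq a ha).imp (fun e1 => by
        simpa only [ev_append, ev_nil] using (T (w ++ w) []).mpr (by simpa only [ev_append, e, ev_nil] using e1)) fun e1 => by
        simpa only [ev_append] using (T (w ++ w) [4, 4]).mpr (by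
          simp only [ev_append, e]; simpa [ev, Gn.bl, Gn.t] using e1))
      (b4.imp (fun e1 => by
        simpa only [ev_append] using (T (w ++ z ++ w ++ z) (z ++ w ++ z ++ w)).mpr
          (by simp only [ev_append, e]; simpa [z, ev, Gn.bl, mul_assoc] using e1)) fun e1 => by
        simpa only [ev_append] using (T (w ++ z ++ w ++ z) (z ++ w ++ z ++ w ++ ([4, 4] : List ℕ))).mpr
          (by simp only [ev_append, e]; simpa [z, ev, Gn.bl, mul_assoc, Gn.t] using e1))
    exact ⟨u, hu, e ▸ ((T _ _).mp e').symm⟩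
  have b5 := Set.ncard_le_ncard (s := (R : Set G)) (t := {1, g.t, c0, c0⁻¹}) fun a ha => h.zen a ha fun b hb => by
    obtain ⟨u, hu, rfl⟩ := b3 a ha
    obtain ⟨u', hu', rfl⟩ := b3 b hb
    exact comm_words (fun i hi => (comm_words (fun j hj => by simpa only [ev_one] using cm i hi j hj)
      (ov_chk.2.2.2.2.2.2.2.1 u hu)).symm) (ov_chk.2.2.2.2.2.2.2.1 u' hu')
  have b6 := b5.trans (Set.ncard_insert_le _ _ |>.trans (Nat.succ_le_succ (Set.ncard_insert_le _ _ |>.trans
    (Nat.succ_le_succ (Set.ncard_insert_le _ _)))))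
  rw [Set.ncard_singleton, ← Nat.card_coe_set_eq, SetLike.coe_sort_coe, h.cardR] at b6
  omega

end Cfsg.Agent.HSR
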