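import Cfsg.Agent.HSR.GL3
import Cfsg.Agent.HSR.PresB

/-! Generators and relations for a group of shape `4³.L₃(2)`. -/

set_option autoImplicit false
set_option linter.unusedSectionVars false

namespace Cfsg.Agent.HSR

open Subgroup MulAction Cfsg.Agent.Mat

/-- Four generators. -/
structure Gn (G : Type*) where
  /-- An element of order four. -/
  c : G
  /-- An element of order seven. -/
  x : G
  /-- An element of order three. -/
  y : G
  /-- An involution. -/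
  s : G

namespace Gn

variable {G : Type*} [Group G] (g : Gn G)

/-- The involution `c²`. -/
def t : G := g.c * g.c

/-- A conjugate of `c`. -/
def d : G := g.x * g.c * g.x⁻¹

/-- A conjugate of `c`. -/
def e : G := g.x * g.d * g.x⁻¹

/-- The base letters. -/
def bl : List G := [g.y, g.y⁻¹, g.x, g.x⁻¹, g.c, g.c⁻¹, g.d, g.d⁻¹, g.e, g.e⁻¹, g.s, g.s⁻¹]

/-- The image under a homomorphism. -/
def map {G' : Type*} [Group G'] (f : G →* G') : Gn G' := ⟨f g.c, f g.x, f g.y, f g.s⟩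

theorem map_bl {G' : Type*} [Group G'] (f : G →* G') : (g.map f).bl = g.bl.map f := by
  simp [bl, map, d, e]

/-- The common relations. -/
structure Base : Prop where
  c4 : g.c * g.c * g.c * g.c = 1
  cd : g.c * g.d = g.d * g.c
  ce : g.c * g.e = g.e * g.c
  de : g.d * g.e = g.e * g.d
  x7 : g.x ^ 7 = 1
  y3 : g.y ^ 3 = 1
  yx : g.y * g.x * g.y⁻¹ = g.x ^ 2
  xe : g.x * g.e * g.x⁻¹ = g.c * g.d ^ 3 * g.e ^ 2
  yc : g.y * g.c * g.y⁻¹ = g.c
  sc : g.s * g.c * g.s⁻¹ = g.c⁻¹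
  sd : g.s * g.d * g.s⁻¹ = g.e
  sy : g.s * g.y * g.s⁻¹ = g.y⁻¹

theorem Base.rels {g : Gn G} (h : g.Base) : ∀ r ∈ relsB, ev g.bl r = 1 := by
  have d4 : g.d ^ 4 = 1 := by rw [d, conj_pow, pow_succ, pow_three', h.c4]; simp
  have yd : g.y * g.d * g.y⁻¹ = g.e := by
    calc _ = (g.y * g.x * g.y⁻¹) * (g.y * g.c * g.y⁻¹) * (g.y * g.x * g.y⁻¹)⁻¹ := by rw [d]; group
      _ = _ := by rw [h.yx, h.yc, e, d]; simp [pow_succ, mul_assoc]
  simp only [relsB, List.forall_mem_cons, ev, bl, List.getD_cons_zero, List.getD_cons_succ, mul_one, ← mul_assoc,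
    mul_inv_cancel, inv_mul_cancel, true_and, List.not_mem_nil, false_imp_iff, implies_true, and_true]
  refine ⟨h.c4, by rw [d]; group, by rw [e]; group, ?_, by rw [h.cd]; group, by rw [h.ce]; group,
    by rw [h.de]; group, by rw [← h.x7]; simp [pow_succ, mul_assoc], by rw [← h.y3]; simp [pow_succ, mul_assoc],
    by rw [h.yx]; simp [pow_succ, mul_assoc], by rw [h.yc]; group,
    by rw [yd]; group, by rw [h.sc]; group, by rw [h.sd]; group, by rw [h.sy]; group⟩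
  have h1 : Commute g.c g.d := h.cd
  have h2 : Commute g.c g.e := h.ce
  have h3 : Commute g.d g.e := h.de
  rw [h.xe, (h1.pow_right 3).eq, mul_assoc _ g.c, (h2.pow_right 2).eq, ← mul_assoc, mul_inv_cancel_right,
    mul_assoc _ _ g.d, ← (h3.pow_right 2).eq, ← mul_assoc, ← pow_succ, d4]
  simp [pow_succ, mul_assoc]

end Gn

/-- The hypotheses on the extension. -/
structure QH {M L : Type*} [Group M] [Group L] (π : M →* L) (t : M) : Prop where
  surj : Function.Surjective π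
  comm : ∀ a b : π.ker, a * b = b * a
  four : ∀ a : π.ker, a ^ 4 = 1
  card : Nat.card π.ker = 64
  sq : ∀ a ∈ π.ker, a * a = 1 → ∃ b ∈ π.ker, b * b = a
  om : {a | a ∈ π.ker ∧ a * a = 1}.ncard = 8
  t1 : t ∈ π.ker
  tt : t * t = 1
  ne : t ≠ 1
  sev : ∀ x, x ^ 7 = 1 → x * t = t * x → x = 1

namespace QH

variable {M L : Type*} [Group M] [Group L] [Finite M] {π : M →* L} {t : M} (h : QH π t)
include h

theorem comm' {a b : M} (ha : a ∈ π.ker) (hb : b ∈ π.ker) : a * b = b * a :=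
  congrArg Subtype.val (h.comm ⟨a, ha⟩ ⟨b, hb⟩)

theorem four' {a : M} (ha : a ∈ π.ker) : a ^ 4 = 1 := congrArg Subtype.val (h.four ⟨a, ha⟩)

theorem trans {x : M} (x7 : x ^ 7 = 1) (x1 : x ≠ 1) {a : M} (ha : a ∈ π.ker) (aa : a * a = 1) (a1 : a ≠ 1) :
    ∃ k ∈ zpowers x, k * t * k⁻¹ = a := by
  have : Fact (Nat.Prime 7) := ⟨by decide⟩
  have h1 := M11.card_inf_centralizer_mul (zpowers x) t
  rw [(eq_bot_iff_forall _).mpr fun k (hk : k ∈ zpowers x ⊓ centralizer {t}) => h.sev k (by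
    obtain ⟨m, rfl⟩ := mem_zpowers_iff.mp (mem_inf.mp hk).1
    rw [← zpow_natCast, ← zpow_mul, mul_comm, zpow_mul, zpow_natCast, x7, one_zpow])
    (mem_centralizer_singleton_iff.mp (mem_inf.mp hk).2), card_bot, one_mul, Nat.card_zpowers,
    orderOf_eq_prime x7 x1] at h1
  exact (Set.eq_of_subset_of_ncard_le (s := {w | ∃ r ∈ zpowers x, r * t * r⁻¹ = w})
    (t := {a | a ∈ π.ker ∧ a * a = 1} \ {1}) (by
      rintro _ ⟨k, -, rfl⟩
      exact ⟨⟨π.normal_ker.conj_mem _ h.t1 k, CIT.conj_sq h.tt⟩, CIT.conj_ne_one h.ne⟩)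
    (by rw [h1, Set.ncard_sdiff_singleton_of_mem (by simp), h.om])).ge ⟨⟨ha, aa⟩, a1⟩

theorem fpf {x : M} (x7 : x ^ 7 = 1) (x1 : x ≠ 1) {a : M} (ha : a ∈ π.ker) (e : x * a = a * x) : a = 1 := by
  have h1 : ∀ a ∈ π.ker, x * a = a * x → a * a = 1 → a = 1 := fun a ha e aa => by_contra fun a1 => by
    obtain ⟨k, hk, rfl⟩ := h.trans x7 x1 ha aa a1
    obtain ⟨m, rfl⟩ := mem_zpowers_iff.mp hk
    refine x1 (h.sev x x7 ?_)
    calc _ = (x ^ m)⁻¹ * (x * (x ^ m * t * (x ^ m)⁻¹)) * x ^ m := by group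
      _ = _ := by rw [e]; group
  exact h1 a ha e (h1 _ (mul_mem ha ha) (by rw [← mul_assoc, e, mul_assoc, e, mul_assoc])
    (by rw [← h.four' ha]; simp [pow_succ, mul_assoc]))

theorem lift {X Y S : L} (p : PreL X Y S) : ∃ (x y : M) (Y' S' : L), PreL X Y' S' ∧ π x = X ∧ π y = Y' ∧
    x ^ 7 = 1 ∧ y ^ 3 = 1 ∧ y * x * y⁻¹ = x ^ 2 ∧ y * t = t * y := by
  obtain ⟨x0, hx0⟩ := h.surj X
  obtain ⟨y0, hy0⟩ := h.surj Y
  have hx : π (x0 ^ 8) = X := by rw [map_pow, hx0, pow_succ, p.x7, one_mul]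
  have x7 : (x0 ^ 8) ^ 7 = 1 := by
    rw [← pow_mul, show 8 * 7 = 7 * 4 * 2 from rfl, pow_mul, pow_mul,
      h.four' (show π _ = 1 by rw [map_pow, hx0, p.x7]), one_pow]
  generalize x0 ^ 8 = x at hx x7
  have x1 : x ≠ 1 := fun e => p.x1 (by rw [← hx, e, map_one])
  obtain ⟨n, hn, e1⟩ := conj_of_coprime (N := π.ker) (p := 7) (by decide) (by rw [h.card]; decide) (g := x ^ 2)
    (g' := y0 * x * y0⁻¹) (fun n hn => π.normal_ker.conj_mem n hn _)
    (show π _ = 1 by simp only [map_mul, map_inv, map_pow, hx, hy0, p.yx, mul_inv_cancel])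
    (by rw [← pow_mul, mul_comm, pow_mul, x7, one_pow]) (by rw [conj_pow, x7]; simp)
  have hy : π (n⁻¹ * y0) = Y := by rw [map_mul, map_inv, show π n = 1 from hn, hy0]; simp
  have yx : n⁻¹ * y0 * x * (n⁻¹ * y0)⁻¹ = x ^ 2 := by
    calc _ = n⁻¹ * (y0 * x * y0⁻¹) * n := by group
      _ = _ := by rw [← e1]; group
  generalize n⁻¹ * y0 = y at hy yx
  have y3 : y ^ 3 = 1 := h.fpf x7 x1 (show π _ = 1 by rw [map_pow, hy, p.y3]) (by
    have : y ^ 3 * x * (y ^ 3)⁻¹ = y * (y * (y * x * y⁻¹) * y⁻¹) * y⁻¹ := by simp [pow_succ, mul_assoc]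
    rw [yx, ← conj_pow, yx, ← conj_pow, ← conj_pow, yx, ← pow_mul, ← pow_mul, pow_succ x 7, x7, one_mul] at this
    exact (mul_inv_eq_iff_eq_mul.mp this).symm)
  obtain ⟨k, hk, e2⟩ := h.trans x7 x1 (π.normal_ker.conj_mem _ h.t1 y) (CIT.conj_sq h.tt) (CIT.conj_ne_one h.ne)
  obtain ⟨m, rfl⟩ := mem_zpowers_iff.mp hk
  have e3 : y * x ^ m * y⁻¹ = x ^ m * x ^ m := by rw [← conj_zpow, yx, pow_two, (Commute.refl x).mul_zpow]
  refine ⟨x, x ^ m * y * (x ^ m)⁻¹, X ^ m * Y * (X ^ m)⁻¹, X ^ m * S * (X ^ m)⁻¹,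
    by have := p.conj (X ^ m); rwa [show X ^ m * X * (X ^ m)⁻¹ = X by group] at this, hx, by simp [hx, hy], x7,
    by rw [conj_pow, y3]; simp, ?_, mul_inv_eq_iff_eq_mul.mp ?_⟩
  · calc _ = x ^ m * (y * x * y⁻¹) * (x ^ m)⁻¹ := by group
      _ = _ := by rw [yx]; group
  · calc _ = x ^ m * (y * x ^ m * y⁻¹)⁻¹ * (y * t * y⁻¹) * (y * x ^ m * y⁻¹) * (x ^ m)⁻¹ := by group
      _ = _ := by rw [e3, ← e2]; group

/-- The commutative structure on the kernel. -/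
@[reducible] def cg : CommGroup π.ker := { (inferInstance : Group π.ker) with mul_comm := h.comm }

theorem bij {x : M} (x7 : x ^ 7 = 1) (x1 : x ≠ 1) {c : π.ker} (cc : c.1 * c.1 = t) :
    letI := h.cg
    Function.Bijective (K c (MulAut.conjNormal x c) (MulAut.conjNormal x (MulAut.conjNormal x c))) := by
  letI := h.cg
  refine K_bij h.four h.card fun i j k e => ?_
  have e1 : t ^ i * (x * t * x⁻¹) ^ j * (x * (x * t * x⁻¹) * x⁻¹) ^ k = 1 := by
    rw [← map_mul, ← map_mul, ← map_mul] at e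
    simpa [cc] using congrArg Subtype.val e
  have t2 : ∀ (a : M) (n : ℕ), a * a = 1 → a ^ n = a ^ (n % 2) := fun a n ha => pow_eq_pow_mod _ (by rwa [pow_two])
  rw [t2 t i h.tt, t2 _ j (CIT.conj_sq h.tt), t2 _ k (CIT.conj_sq (CIT.conj_sq h.tt))] at e1
  have v1 : x * t * x⁻¹ ≠ t := fun e => x1 (h.sev x x7 (mul_inv_eq_iff_eq_mul.mp e))
  have hp : ∀ n, n = 2 ∨ n = 3 → x ^ n * t * (x ^ n)⁻¹ ≠ t := fun n hn e => by
    have := h.sev _ (by rw [← pow_mul, mul_comm, pow_mul, x7, one_pow]) (mul_inv_eq_iff_eq_mul.mp e)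
    exact x1 (by
      rcases hn with rfl | rfl
      · calc x = (x ^ 2) ^ 4 * (x ^ 7)⁻¹ := by group
          _ = 1 := by rw [this, x7]; simp
      · calc x = x ^ 7 * ((x ^ 3) ^ 2)⁻¹ := by group
          _ = 1 := by rw [this, x7]; simp)
  have ti := inv_eq_of_mul_eq_one_right h.tt
  rcases Nat.mod_two_eq_zero_or_one i with e2 | e2 <;> rcases Nat.mod_two_eq_zero_or_one j with e3 | e3 <;>
    rcases Nat.mod_two_eq_zero_or_one k with e4 | e4 <;> simp only [e2, e3, e4, pow_zero, pow_one, one_mul, mul_one,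
      and_self] at e1 ⊢ <;> exfalso
  · exact CIT.conj_ne_one (CIT.conj_ne_one h.ne) e1
  · exact CIT.conj_ne_one h.ne e1
  · rw [conj_mul, conj_eq_one_iff] at e1
    exact v1 ((eq_inv_of_mul_eq_one_right e1).trans ti)
  · exact h.ne e1
  · exact hp 2 (.inl rfl) (Eq.trans (by simp [pow_succ, mul_assoc]) ((eq_inv_of_mul_eq_one_right e1).trans ti))
  · exact v1 ((eq_inv_of_mul_eq_one_right e1).trans ti)
  · refine hp 3 (.inr rfl) ?_
    have e5 := eq_inv_of_mul_eq_one_right e1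
    have vv := inv_eq_of_mul_eq_one_right (CIT.conj_sq (g := x) h.tt)
    rw [mul_inv_rev, ti, vv] at e5
    calc _ = x * (x * (x * t * x⁻¹) * x⁻¹) * x⁻¹ := by simp [pow_succ, mul_assoc]
      _ = x * (x * t * x⁻¹ * t) * x⁻¹ := by rw [e5]
      _ = (x * (x * t * x⁻¹) * x⁻¹) * (x * t * x⁻¹) := by group
      _ = _ := by rw [e5, mul_assoc, h.comm' h.t1 (π.normal_ker.conj_mem _ h.t1 x), ← mul_assoc,
        CIT.conj_sq h.tt, one_mul]

theorem poly {x : M} (x7 : x ^ 7 = 1) (x1 : x ≠ 1) {c : M} (hc : c ∈ π.ker) (cc : c * c = t) :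
    ∃ z, (z = x ∨ z = x⁻¹) ∧ z * (z * (z * c * z⁻¹) * z⁻¹) * z⁻¹ =
      c * (z * c * z⁻¹) ^ 3 * (z * (z * c * z⁻¹) * z⁻¹) ^ 2 := by
  letI := h.cg
  have hb := h.bij x7 x1 (c := ⟨c, hc⟩) cc
  obtain ⟨α, hα⟩ := hb.2 (MulAut.conjNormal x (MulAut.conjNormal x (MulAut.conjNormal x ⟨c, hc⟩)))
  have h1 := map_K h.four (MulAut.conjNormal x) K_d.symm K_e.symm hα.symm
  set k := K (⟨c, hc⟩ : π.ker) (MulAut.conjNormal x ⟨c, hc⟩) (MulAut.conjNormal x (MulAut.conjNormal x ⟨c, hc⟩))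
    with hk
  have h2 : ∀ n : ℕ, x ^ n * c * (x ^ n)⁻¹ = k ((lin (0, 1, 0) (0, 0, 1) α)^[n] (1, 0, 0)) := fun n => by
    induction n with
    | zero => simp [hk, K_c]
    | succ n ih => rw [Function.iterate_succ_apply', ← h1, MulAut.conjNormal_apply, ← ih]; group
  rcases poly_chk α (hb.1 (Subtype.ext (by rw [← h2, x7, hk, K_c]; simp))) with e | e
  · refine ⟨x, .inl rfl, ?_⟩
    have := congrArg Subtype.val hα
    rw [e] at this
    exact this.symm.trans (by rw [hk, K, show (1 : ZMod 4).val = 1 from rfl, pow_one]; rfl)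
  · refine ⟨x⁻¹, .inr rfl, ?_⟩
    have e1 := h2 18
    rw [e, hk, K_add h.four, K_add h.four, K_nsmul h.four, K_nsmul h.four, K_c, ← hk, coe_mul, coe_mul, coe_pow,
      coe_pow, ← h2, ← h2] at e1
    rw [show x⁻¹ = x ^ 6 from inv_eq_of_mul_eq_one_right (by rw [← x7]; group)]
    calc _ = x ^ 18 * c * (x ^ 18)⁻¹ := by group
      _ = _ := by rw [e1]; group

theorem exists_base {X Y S : L} (p : PreL X Y S) : ∃ g : Gn M, g.t = t ∧ g.Base ∧ cl g.bl = ⊤ ∧ g.c ∈ π.ker ∧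
    g.y ≠ 1 ∧ (g.s * g.s = 1 ∨ g.s * g.s = t) ∧ ((g.s * g.x) ^ 3 = 1 ∨ (g.s * g.x) ^ 3 = g.d) := by
  letI := h.cg
  obtain ⟨x0, y, Y, S, p, hx, hy, x7, y3, yx, yt⟩ := h.lift p
  obtain ⟨c1, h1, cc1⟩ := h.sq t h.t1 h.tt
  have n1 := π.normal_ker.conj_mem
  obtain ⟨c, hc, cc, yc⟩ : ∃ c ∈ π.ker, c * c = t ∧ y * c * y⁻¹ = c := by
    have h2 := n1 _ h1 y
    have h3 := n1 _ h2 y
    have yt' : y * t * y⁻¹ = t := mul_inv_eq_iff_eq_mul.mpr yt
    refine ⟨_, mul_mem (mul_mem h1 h2) h3, ?_, ?_⟩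
    · have := congrArg Subtype.val (mul_mul_mul_comm (⟨c1, h1⟩ * ⟨_, h2⟩ : π.ker) ⟨_, h3⟩ (⟨c1, h1⟩ * ⟨_, h2⟩) ⟨_, h3⟩)
      rw [mul_mul_mul_comm (⟨c1, h1⟩ : π.ker)] at this
      simp only [coe_mul, conj_mul, cc1, yt', h.tt, one_mul] at this
      exact this
    · rw [← conj_mul, ← conj_mul, show y * (y * (y * c1 * y⁻¹) * y⁻¹) * y⁻¹ = y ^ 3 * c1 * (y ^ 3)⁻¹ by
        simp [pow_succ, mul_assoc], y3,
        one_mul, inv_one, mul_one, h.comm' (mul_mem h2 h3) h1, mul_assoc c1]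
  obtain ⟨x, e, xe⟩ := h.poly x7 (fun e => p.x1 (by rw [← hx, e, map_one])) hc cc
  obtain ⟨X, p, hx, x7, yx⟩ : ∃ X, PreL X Y S ∧ π x = X ∧ x ^ 7 = 1 ∧ y * x * y⁻¹ = x ^ 2 := by
    rcases e with rfl | rfl
    · exact ⟨_, p, hx, x7, yx⟩
    · exact ⟨_, p.inv, by rw [map_inv, hx], by rw [inv_pow, x7, inv_one], by rw [inv_pow, ← yx]; group⟩
  have x1 : x ≠ 1 := fun e => p.x1 (by rw [← hx, e, map_one])
  obtain ⟨s0, hs0⟩ := h.surj S
  obtain ⟨n, hn, e1⟩ := conj_of_coprime (N := π.ker) Nat.prime_three (by rw [h.card]; decide) (g := y⁻¹)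
    (g' := s0 * y * s0⁻¹) (fun n hn => n1 n hn _)
    (show π _ = 1 by simp only [map_mul, map_inv, hy, hs0, p.sy, mul_inv_cancel])
    (by rw [inv_pow, y3, inv_one]) (by rw [conj_pow, y3]; simp)
  have hs : π (n⁻¹ * s0) = S := by rw [map_mul, map_inv, show π n = 1 from hn, hs0]; simp
  have sy : n⁻¹ * s0 * y * (n⁻¹ * s0)⁻¹ = y⁻¹ := by
    calc _ = n⁻¹ * (s0 * y * s0⁻¹) * n := by group
      _ = _ := by rw [← e1]; group
  generalize n⁻¹ * s0 = s at hs sy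
  have hb := h.bij x7 x1 (c := ⟨c, hc⟩) cc
  let φ : M →* MulAut π.ker := MulAut.conjNormal
  have φ1 : ∀ m ∈ π.ker, ∀ a, φ m a = a := fun m hm a =>
    Subtype.ext (mul_inv_eq_iff_eq_mul.mpr (h.comm' hm a.2))
  have φm : ∀ a b u, φ a (φ b u) = φ (a * b) u := fun a b u => by rw [map_mul]; rfl
  set C : π.ker := ⟨c, hc⟩ with hC
  change Function.Bijective (K C (φ x C) (φ x (φ x C))) at hb
  set k := K C (φ x C) (φ x (φ x C)) with hk
  have a1 : ∀ u, φ x (k u) = k (lX u) := map_K h.four (φ x) K_d.symm K_e.symm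
    (Subtype.ext (xe.trans (by rw [K, show (1 : ZMod 4).val = 1 from rfl, pow_one]; rfl)))
  have yC : φ y C = C := Subtype.ext yc
  have yx' : y * x = x * x * y := by rw [← pow_two, ← yx, inv_mul_cancel_right]
  have yD : φ y (φ x C) = φ x (φ x C) := by rw [φm, yx', ← φm, yC, φm]
  have a2 : ∀ u, φ y (k u) = k (lY u) := map_K h.four (φ y) (yC.trans K_c.symm) (yD.trans K_e.symm) (by
    rw [← hk, ← a1, show (1, 3, 2) = lX (0, 0, 1) from rfl, ← a1, hk, K_e, φm, yx', ← φm, yD, ← φm])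
  obtain ⟨α, hα⟩ := hb.2 (φ s C)
  obtain ⟨γ, hγ⟩ := hb.2 (φ s (φ x (φ x C)))
  have ys : y * s * y = s := by rw [mul_assoc, mul_inv_eq_iff_eq_mul.mp sy, mul_inv_cancel_left]
  have hβ : φ s (φ x C) = k (lY γ) := by rw [← a2, hγ, ← yD, φm y, φm (y * s), ys]
  have a3 := map_K h.four (φ s) hα.symm hβ hγ.symm
  rw [← hk] at a3
  have m2 : s * s ∈ π.ker := show π _ = 1 by rw [map_mul, hs, p.ss]
  have m3 : (s * x) ^ 3 ∈ π.ker := show π _ = 1 by rw [map_pow, map_mul, hs, hx, p.sx]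
  have a4 : ∀ u, (fun u => lin α (lY γ) γ (lX u))^[3] u = u := fun u => hb.1 (by
    simp only [Function.iterate_succ_apply', Function.iterate_zero_apply, ← a3, ← a1, φm]
    exact φ1 _ (by convert m3 using 1; simp [pow_succ, mul_assoc]) _)
  obtain ⟨rfl, rfl⟩ := s_chk α (hb.1 (by rw [← a2, hα, ← yC, φm, φm, ys, yC])) γ
    (hb.1 (by rw [← a3, hγ, φm, φ1 _ m2, hk, K_e])) (a4 _) (a4 _)
  change ∀ u, φ s (k u) = k (lS u) at a3
  obtain ⟨σ, hσ⟩ := hb.2 ⟨_, m2⟩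
  obtain ⟨τ, hτ⟩ := hb.2 ⟨_, m3⟩
  have sc : s * c * s⁻¹ = c⁻¹ := by
    have := congrArg Subtype.val hα
    rw [show ((3, 0, 0) : W) = 3 • (1, 0, 0) from rfl, hk, K_nsmul h.four, K_c] at this
    exact this.symm.trans (eq_inv_of_mul_eq_one_left ((pow_succ c 3).symm.trans (h.four' hc)))
  have sd : s * (x * c * x⁻¹) * s⁻¹ = x * (x * c * x⁻¹) * x⁻¹ := congrArg Subtype.val (hβ.trans K_e)
  have ss : s * s = 1 ∨ s * s = t := (s_chk'.1 σ (hb.1 (by
      rw [← a2, hσ]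
      refine Subtype.ext (mul_inv_eq_iff_eq_mul.mpr ?_)
      calc y * (s * s) = (y * s * y) * (s * y * s⁻¹) * s := by rw [sy]; group
        _ = s * s * y * s⁻¹ * s := by rw [ys]; group
        _ = _ := by simp)) (hb.1 (by
      rw [← a3, hσ]
      exact Subtype.ext (mul_inv_eq_iff_eq_mul.mpr (mul_assoc _ _ _).symm)))).imp
    (fun e => by rw [e, hk, K_zero] at hσ; exact congrArg Subtype.val hσ.symm)
    fun e => by rw [e, hk, K_add h.four, K_c] at hσ; exact (congrArg Subtype.val hσ.symm).trans cc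
  have hd := n1 _ hc x
  have he := n1 _ hd x
  have fin : ∀ s' : M, π s' = S → s' * c * s'⁻¹ = c⁻¹ → s' * (x * c * x⁻¹) * s'⁻¹ = x * (x * c * x⁻¹) * x⁻¹ →
      s' * y * s'⁻¹ = y⁻¹ → Gn.t ⟨c, x, y, s'⟩ = t ∧ Gn.Base ⟨c, x, y, s'⟩ ∧ cl (Gn.bl ⟨c, x, y, s'⟩) = ⊤ ∧
        c ∈ π.ker ∧ y ≠ 1 := fun s' b1 b2 b3 b4 => by
    refine ⟨cc, ⟨by rw [← h.four' hc]; simp [pow_succ, mul_assoc], h.comm' hc hd, h.comm' hc he, h.comm' hd he, x7, y3, yx, xe, yc, b2, b3,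
      b4⟩, ?_, hc, fun e => x1 (by rw [e, one_mul, inv_one, mul_one, pow_two] at yx; exact left_eq_mul.mp yx)⟩
    have b5 : ∀ i, (Gn.bl ⟨c, x, y, s'⟩).getD i 1 ∈ cl (Gn.bl ⟨c, x, y, s'⟩) := getD_mem fun _ => mem_cl
    rw [← comap_map_eq_self (f := π) (H := cl _) fun a ha => by
      obtain ⟨u, hu⟩ := hb.2 ⟨a, ha⟩
      rw [show a = (k u).1 from congrArg Subtype.val hu.symm]
      exact mul_mem (mul_mem (pow_mem (b5 4) _) (pow_mem (b5 6) _)) (pow_mem (b5 8) _), eq_top_iff,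
      ← comap_top π, ← p.gen]
    refine comap_mono (cl_le ?_)
    simp only [List.forall_mem_cons]
    exact ⟨⟨_, b5 2, hx⟩, ⟨_, b5 0, hy⟩, ⟨_, b5 10, b1⟩, by simp⟩
  have kd : ∀ u, (u = 0 ∨ u = (0, 1, 0)) → (k u).1 = 1 ∨ (k u).1 = x * c * x⁻¹ := fun u e =>
    e.imp (fun e => by rw [e, hk, K_zero]; rfl) fun e => by rw [e, hk, K_d]; rfl
  rcases s_chk'.2 τ (hb.1 (by
    rw [← a3, ← a1, hτ, φm]
    exact Subtype.ext (mul_inv_eq_iff_eq_mul.mpr ((pow_succ' (s * x) 3).symm.trans (pow_succ (s * x) 3))))) with e | e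
  · obtain ⟨b1, b2, b3, b4, b5⟩ := fin s hs sc sd sy
    exact ⟨_, b1, b2, b3, b4, b5, ss, by simpa only [hτ, Gn.d] using kd τ e⟩
  · obtain ⟨b1, b2, b3, b4, b5⟩ := fin (c * s) (by rw [map_mul, hs, show π c = 1 from hc, one_mul])
      (by calc _ = c * (s * c * s⁻¹) * c⁻¹ := by group
        _ = _ := by rw [sc]; group)
      (by calc _ = c * (s * (x * c * x⁻¹) * s⁻¹) * c⁻¹ := by group
        _ = _ := by rw [sd, h.comm' hc he, mul_inv_cancel_right])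
      (by calc _ = c * (s * y * s⁻¹) * c⁻¹ := by group
        _ = y⁻¹ * (y * c * y⁻¹) * c⁻¹ := by rw [sy]; group
        _ = _ := by rw [yc]; group)
    refine ⟨_, b1, b2, b3, b4, b5, ?_, ?_⟩
    · show c * s * (c * s) = 1 ∨ c * s * (c * s) = t
      rwa [show c * s * (c * s) = c * (s * c * s⁻¹) * (s * s) by group, sc, mul_inv_cancel, one_mul]
    · have := kd _ e
      rw [hk, K_add h.four, K_add h.four, K_add h.four, ← hk, hτ] at this
      simp only [← a3, ← a1] at this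
      rw [hk, K_c] at this
      convert this using 2 <;> simp [φ, hC, pow_succ, mul_assoc, Gn.d]

end QH

end Cfsg.Agent.HSR
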