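import Cfsg.Agent.HSR.Pass
import Cfsg.Agent.HSR.Leech

/-! Facts about the model used in the final step. -/

set_option autoImplicit false
set_option maxRecDepth 100000

namespace Cfsg.Agent.HSR

open Subgroup MulAction Cfsg.Agent.Mat Cfsg.Agent.Local

attribute [local irreducible] cmul cinv pack ms msM msH xs ps

/-- The code of an element. -/
def cv {n : ℕ} (a : CP n) : ℕ := a.1

theorem cv_inj {n : ℕ} : Function.Injective (cv : CP n → ℕ) := Subtype.val_injective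

theorem cl_map_le {G : Type*} [Group G] (us : List (List ℕ)) (gs : List G) : cl (us.map (ev gs)) ≤ cl gs :=
  cl_le fun x hx => by
    obtain ⟨w, -, rfl⟩ := List.mem_map.mp hx
    exact ev_mem_cl _ _

theorem msM_le' : cl msM ≤ cl ms := msM_eq' ▸ cl_map_le _ _

theorem msH_le : cl msH ≤ cl ms := msH_eq ▸ cl_map_le _ _

theorem xs_le : cl xs ≤ cl ms := xs_eq ▸ cl_map_le _ _

theorem ps_le : cl ps ≤ cl ms := ps_eq ▸ cl_map_le _ _

theorem inv_cls {m : CP 100} (hm : m ∈ cl ms) (h : m * m = 1) :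
    m = 1 ∨ ∃ g ∈ cl ms, g * ev ms [5] * g⁻¹ = m ∨ g * ev ms [13, 14] * g⁻¹ = m := by
  obtain ⟨g, hg, h1⟩ := exists_conj_mem msM_le' Nat.prime_two (a := 4125) (by decide) (by rw [hs_iso.2, card_msM]) hm
    (by rwa [pow_two])
  rcases (passM h1).2.2.2 (by simpa using CIT.conj_sq (g := g⁻¹) h) with e | ⟨k, hk, e⟩
  · exact .inl (by_contra fun h2 => CIT.inv_conj_ne_one h2 e)
  · refine .inr ⟨g * k, mul_mem hg hk, e.imp (fun e => ?_) fun e => ?_⟩ <;>
      rw [show m = g * (g⁻¹ * m * g) * g⁻¹ by group, ← e] <;> group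

theorem fx_chk : fx 100 kt = true ∧ fx 100 kj = false ∧ ev ms [5] * ev ms [5] = 1 := by decide +kernel

theorem fix_conj {g a : CP 100} (h : ∃ i : Fin 100, a • i = i) : ∃ i : Fin 100, (g * a * g⁻¹) • i = i :=
  h.elim fun i h => ⟨g • i, by rw [mul_smul, inv_smul_smul, mul_smul, h]⟩

theorem prod_cls {k : CP 100} (hk : k * ev ms [5] * k⁻¹ ∈ cl msH)
    (h : k * ev ms [5] * k⁻¹ * ev ms [5] = ev ms [5] * (k * ev ms [5] * k⁻¹)) :
    k * ev ms [5] * k⁻¹ = ev ms [5] ∨ ∃ g ∈ cl ms, g * ev ms [5] * g⁻¹ = k * ev ms [5] * k⁻¹ * ev ms [5] := by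
  obtain ⟨h1, h2, h3⟩ := fx_chk
  rw [← k_eq.2.2.2.1, fx_iff] at h1
  rw [← k_eq.2.2.2.2.2.2.2.2, ← Bool.not_eq_true, fx_iff] at h2
  have h4 := CIT.conj_sq (g := k) h3
  have h5 := (passH hk).2.2 h4 (fix_conj h1)
  have h6 := inv_cls (mul_mem (msH_le hk) (ev_mem_cl ms [5]))
  generalize ev ms [5] = t at *
  generalize k * t * k⁻¹ = m at *
  rcases h5 with e | e
  · exact .inl e
  rcases h6 (by rw [mul_assoc, ← mul_assoc t, ← h, mul_assoc, h3, mul_one, h4]) with e1 | ⟨g, hg, e1 | e1⟩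
  · exact .inl (by rw [eq_inv_of_mul_eq_one_left e1, inv_eq_of_mul_eq_one_right h3])
  · exact .inr ⟨g, hg, e1⟩
  · have := fix_conj (g := g⁻¹) (e1 ▸ e)
    exact absurd (by simpa [mul_assoc] using this) h2

theorem c9_chk : clChk ps (k1 :: c9) = true ∧ ∀ a ∈ ps, a * ev ms [13, 14] = ev ms [13, 14] * a := by decide +kernel

theorem card_ps : Nat.card (cl ps) = 9 := by
  refine le_antisymm ?_ (chChk_le ch9_chk)
  have h := Set.ncard_le_ncard (s := cv '' (cl ps : Set (CP 100))) (t := (k1 :: c9).toFinset)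
    (by rintro _ ⟨x, hx, rfl⟩; exact List.mem_toFinset.mpr (clChk_spec c9_chk.1 hx))
  rw [Set.ncard_image_of_injective _ cv_inj, Set.ncard_coe_finset] at h
  exact h.trans (List.toFinset_card_le _)

theorem three_cls {m : CP 100} (hm : m ∈ cl ms) (h : m ^ 3 = 1) (h1 : m ≠ 1) :
    ∃ g ∈ cl ms, g * ev ms [0] * g⁻¹ = m := by
  obtain ⟨g, hg, h2⟩ := exists_conj_mem ps_le Nat.prime_three (a := 4928000) (by decide) (by rw [hs_iso.2, card_ps])
    hm h
  rcases List.mem_cons.mp (clChk_spec c9_chk.1 h2) with e | e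
  · exact absurd (cv_inj (e.trans k_eq.1.symm)) (CIT.inv_conj_ne_one h1)
  · obtain ⟨k, hk, e1⟩ := cj_spec w9_chk e
    exact ⟨g * k, mul_mem hg hk, by rw [show m = g * (g⁻¹ * m * g) * g⁻¹ by group, ← e1]; group⟩

/-- Value of a word in codes. -/
def evc (n : ℕ) (cs : List ℕ) (w : List ℕ) : ℕ :=
  @List.rec ℕ (fun _ => ℕ) (pack id n) (fun a _ ih => cmul n (cs.getD a (pack id n)) ih) w

theorem evc_eq {n : ℕ} [Fact (n ≤ 256)] (l : List (CP n)) (w : List ℕ) :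
    evc n (l.map cv) w = (ev l w).1 := by
  induction w with
  | nil => rfl
  | cons a w ih => exact congrArg₂ (cmul n) (List.getD_map l 1 cv) ih

/-- The test on the centralizer of `y`. -/
def test0 (a : ℕ) : Bool :=
  (!lz 100 [a, a] [k1] || Nat.beq a k1 || memN a cD || memN a cT) &&
  (!lz 100 [a, a, a, a, a] [] || Nat.beq a k1 || memN a (witF.map Prod.fst)) &&
  force (cmul 100 (cmul 100 a kt) (cinv 100 a)) (memN · cD)

theorem x0_chk : clChk xs cX = true ∧ allL test0 cX = true ∧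
    allL (fun u => !cm 100 u kt || Nat.beq u kt || force (cmul 100 u kt) (memN · cD)) cD = true ∧
    allL (fun p => memN p.2.1 cD && memN p.2.2 cD && lz 100 [p.2.1, p.1, p.2.1, p.1] [] &&
      allL (fun m => !lz 100 [p.2.2, m, p.2.2, m] [] || anyL (fun w => force (evc 100 [p.1, m] w) (memN · cD)) wF)
        (witF.map Prod.fst)) witF = true ∧ cD.Nodup := by
  decide +kernel

theorem pass0 {m : CP 100} (hm : m ∈ cl xs) :
    (m * m = 1 → m = 1 ∨ ∃ g ∈ cl xs, g * ev ms [5] * g⁻¹ = m ∨ g * ev ms [13, 14] * g⁻¹ = m) ∧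
    (m ^ 5 = 1 → m ≠ 1 → m.1 ∈ witF.map Prod.fst) ∧ (m * ev ms [5] * m⁻¹).1 ∈ cD := by
  have h := allL_iff.mp x0_chk.2.1 _ (clChk_spec x0_chk.1 hm)
  simp only [test0, Bool.and_eq_true, force_eq, ← k_eq.1, ← k_eq.2.2.2.1, ← val_inv, ← val_mul] at h
  obtain ⟨⟨h1, h2⟩, h3⟩ := h
  refine ⟨fun a => ?_, fun a b => ?_, memN_iff.mp h3⟩
  · rw [sq_of a] at h1
    simp only [Bool.not_true, Bool.false_or, Bool.or_eq_true, Nat.beq_eq, memN_iff] at h1
    rcases h1 with (e | e) | e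
    · exact .inl (Subtype.ext e)
    · exact .inr ((cj_spec wD_chk e).imp fun _ h => ⟨h.1, .inl h.2⟩)
    · exact .inr ((cj_spec wT_chk e).imp fun _ h => ⟨h.1, .inr h.2⟩)
  · rw [show lz 100 [m.1, m.1, m.1, m.1, m.1] [] = true from
      lz_of_eq [m, m, m, m, m] [] (by simpa [pow_succ, mul_assoc] using a)] at h2
    simp only [Bool.not_true, Bool.false_or, Bool.or_eq_true, Nat.beq_eq, memN_iff] at h2
    exact h2.resolve_left fun e => b (Subtype.ext e)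

theorem prod0 {k : CP 100} (hk : k ∈ cl xs)
    (h : k * ev ms [5] * k⁻¹ * ev ms [5] = ev ms [5] * (k * ev ms [5] * k⁻¹)) :
    k * ev ms [5] * k⁻¹ = ev ms [5] ∨ ∃ g ∈ cl xs, g * ev ms [5] * g⁻¹ = k * ev ms [5] * k⁻¹ * ev ms [5] := by
  have h1 := allL_iff.mp x0_chk.2.2.1 _ (pass0 hk).2.2
  generalize k * ev ms [5] * k⁻¹ = m at *
  simp only [force_eq, ← k_eq.2.2.2.1, ← val_mul, cm_of h, Bool.not_true, Bool.false_or, Bool.or_eq_true, Nat.beq_eq,
    memN_iff] at h1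
  exact h1.imp Subtype.ext (cj_spec wD_chk)

theorem noK {K : Subgroup (CP 100)} (h1 : K ≤ cl xs)
    (h2 : ∀ a ∈ cl xs, ∀ b ∈ cl xs, ∃ k ∈ K, k * (a * ev ms [5] * a⁻¹) * k⁻¹ = b * ev ms [5] * b⁻¹)
    (h3 : ∀ a ∈ cl xs, a * ev ms [5] * a⁻¹ ∉ K) : False := by
  have h4 := M11.card_inf_centralizer_mul K (ev ms [5])
  have h5 : cv '' {w | ∃ k ∈ K, k * ev ms [5] * k⁻¹ = w} = cD.toFinset := by
    ext c
    rw [Finset.mem_coe, List.mem_toFinset]
    constructor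
    · rintro ⟨_, ⟨k, hk, rfl⟩, rfl⟩
      exact (pass0 (h1 hk)).2.2
    · intro hc
      obtain ⟨w, -, rfl⟩ := List.mem_map.mp (wD_chk ▸ hc)
      exact ⟨_, by simpa using h2 1 (one_mem _) _ (ev_mem_cl xs w), rfl⟩
  rw [← Set.ncard_image_of_injective _ cv_inj, h5, Set.ncard_coe_finset,
    List.toFinset_card_of_nodup x0_chk.2.2.2.2, show cD.length = 3 * 5 from rfl, ← mul_assoc] at h4
  obtain ⟨m, hm, e⟩ := exists_mem_orderOf_eq_of_dvd_card Nat.prime_five (Dvd.intro_left _ h4)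
  have m5 : m ^ 5 = 1 := e ▸ pow_orderOf_eq_one m
  have m1 : m ≠ 1 := fun e' => by simp [e'] at e
  obtain ⟨p, hp, e1⟩ := List.mem_map.mp ((pass0 (h1 hm)).2.1 m5 m1)
  have h6 := allL_iff.mp x0_chk.2.2.2.1 p hp
  simp only [Bool.and_eq_true, memN_iff, allL_iff, force_eq] at h6
  obtain ⟨⟨⟨h7, h8⟩, h9⟩, h10⟩ := h6
  obtain ⟨a, -, ea⟩ := List.mem_map.mp (wD_chk ▸ h7)
  obtain ⟨b, -, eb⟩ := List.mem_map.mp (wD_chk ▸ h8)
  obtain ⟨k, hk, e2⟩ := h2 _ (ev_mem_cl xs a) _ (ev_mem_cl xs b)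
  generalize ev xs a * ev ms [5] * (ev xs a)⁻¹ = u at *
  generalize ev xs b * ev ms [5] * (ev xs b)⁻¹ = u' at *
  have h11 : k * m * k⁻¹ ∈ K := mul_mem (mul_mem hk hm) (inv_mem hk)
  have h12 := h10 _ ((pass0 (h1 h11)).2.1 (by rw [conj_pow, m5]; simp) (CIT.conj_ne_one m1))
  rw [← ea, e1] at h9
  have h13 := eq_of_lz [u, m, u, m] [] h9
  rw [← eb, e1, show lz 100 [u'.1, (k * m * k⁻¹).1, u'.1, (k * m * k⁻¹).1] [] = true from
    lz_of_eq [u', k * m * k⁻¹, u', k * m * k⁻¹] [] (by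
      rw [← e2]
      simpa [mul_assoc] using congrArg (fun z => k * z * k⁻¹) h13)] at h12
  rw [Bool.not_true, Bool.false_or] at h12
  obtain ⟨w, -, h14⟩ := anyL_iff.mp h12
  rw [show [m.1, (k * m * k⁻¹).1] = [m, k * m * k⁻¹].map cv from rfl, evc_eq, memN_iff] at h14
  obtain ⟨g, hg, e3⟩ := cj_spec wD_chk h14
  exact h3 g hg (e3 ▸ ev_mem (by simp [hm, h11]) w)

theorem orb_chk : (∀ i : Fin 100, ev ms (wO.getD i []) • (0 : Fin 100) = i) ∧ ev ms [0, 3, 13] ^ 11 = 1 ∧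
    ∀ i : Fin 100, ev ms [0, 3, 13] • i = i ↔ i = 0 := by
  simp only [Fin.ext_iff, CP.smul_val]
  decide +kernel

theorem ker_triv {N : Subgroup (cl ms)} [hN : N.Normal] (h : Nat.card N ∣ 5775) : N = ⊥ := by
  classical
  let O : Set (Fin 100) := {i | ∃ g ∈ N, g • (0 : Fin 100) = i}
  have h1 : O.ncard ∣ 5775 := (Dvd.intro_left _ (Pres.card_inf_stabilizer_mul N (0 : Fin 100))).trans h
  let z := el ms [0, 3, 13]
  have z0 : z • (0 : Fin 100) = 0 := (orb_chk.2.2 0).mpr rfl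
  let f : Function.End O := fun i => ⟨z • i.1, by
    obtain ⟨_, g, hg, rfl⟩ := i
    exact ⟨_, hN.conj_mem g hg z, by rw [mul_smul, inv_smul_eq_iff.mpr z0.symm, mul_smul]⟩⟩
  have h2 : ∀ (k : ℕ) (i : O), ((f ^ k) i).1 = z ^ k • i.1 := fun k => by
    induction k with
    | zero => exact fun i => (one_smul (cl ms) i.1).symm
    | succ k ih => intro i; rw [pow_succ, pow_succ, mul_smul]; exact ih (f i)
  have : Fact (Nat.Prime 11) := ⟨by decide⟩
  have h3 := Equiv.Perm.card_fixedPoints_modEq (f := f) (p := 11) (n := 1) (funext fun i => Subtype.ext (by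
    rw [h2, show z ^ 11 ^ 1 = 1 from Subtype.ext orb_chk.2.1, one_smul]; rfl))
  have h0 : (0 : Fin 100) ∈ O := ⟨1, one_mem _, one_smul _ _⟩
  rw [(Fintype.card_eq_one_iff (α := f.fixedPoints)).mpr ⟨⟨⟨0, h0⟩, Subtype.ext z0⟩, fun i => Subtype.ext (Subtype.ext
    ((orb_chk.2.2 _).mp (congrArg Subtype.val i.2)))⟩, ← Nat.card_eq_fintype_card, Nat.card_coe_set_eq] at h3
  have h4 : O.ncard ≤ 100 := (Set.ncard_le_card O).trans (by simp)
  have h5 := (by decide : ∀ k ≤ 100, k ∣ 5775 → k % 11 = 1 % 11 → k = 1) _ h4 h1 h3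
  refine (eq_bot_iff_forall N).mpr fun g hg => Subtype.ext (eq_of_smul_eq_smul (α := Fin 100) fun i => ?_)
  have h6 := (Set.ncard_le_one_iff_subsingleton.mp h5.le) ⟨_, hN.conj_mem' g hg (el ms (wO.getD i [])), rfl⟩ h0
  rw [mul_smul, mul_smul, inv_smul_eq_iff] at h6
  have h7 : el ms (wO.getD i []) • (0 : Fin 100) = i := orb_chk.1 i
  rw [h7] at h6
  exact h6.trans (one_smul _ _).symm

end Cfsg.Agent.HSR
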