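import Cfsg.Agent.HSR.PassC

/-! Facts about the models. -/

set_option autoImplicit false
set_option maxRecDepth 100000

namespace Cfsg.Agent.HSR

open Subgroup MulAction Cfsg.Agent.Mat

section

variable {n : ℕ} [hn : Fact (n ≤ 256)]

theorem val_mul (a b : CP n) : (a * b).1 = cmul n a.1 b.1 := rfl

theorem val_inv (a : CP n) : (a⁻¹).1 = cinv n a.1 := rfl

theorem cm_of {a b : CP n} (h : a * b = b * a) : cm n a.1 b.1 = true := lz_of_eq [a, b] [b, a] (by simpa using h)

theorem sq_of {a b : CP n} (h : a * a = b) : lz n [a.1, a.1] [b.1] = true := lz_of_eq [a, a] [b] (by simpa using h)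

theorem p4_of {a : CP n} (h : a * a * a * a = 1) : lz n [a.1, a.1, a.1, a.1] [] = true :=
  lz_of_eq [a, a, a, a] [] (by simpa [mul_assoc] using h)

theorem q1_of {a s : CP n} (h : a * s * a * s = s * a * s * a) :
    lz n [a.1, s.1, a.1, s.1] [s.1, a.1, s.1, a.1] = true :=
  lz_of_eq [a, s, a, s] [s, a, s, a] (by simpa [mul_assoc] using h)

theorem q2_of {a s t : CP n} (h : a * s * a * s = s * a * s * a * t) :
    lz n [a.1, s.1, a.1, s.1] [s.1, a.1, s.1, a.1, t.1] = true :=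
  lz_of_eq [a, s, a, s] [s, a, s, a, t] (by simpa [mul_assoc] using h)

/-- The check that a list of codes is closed under multiplication by generators. -/
def clChk (gs : List (CP n)) (cs : List ℕ) : Bool :=
  memN (pack id n) cs && allL (fun c => allL (fun g : CP n => force (cmul n c g.1) (memN · cs)) gs) cs

theorem clChk_spec {gs : List (CP n)} {cs : List ℕ} (h : clChk gs cs = true) {x : CP n} (hx : x ∈ cl gs) :
    x.1 ∈ cs := by
  obtain ⟨w, rfl⟩ := exists_word hx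
  simp only [clChk, Bool.and_eq_true, memN_iff, allL_iff, force_eq] at h
  induction w using List.reverseRecOn with
  | nil => exact h.1
  | append_singleton w a ih =>
    rw [ev_append, ev, ev, mul_one, List.getD_eq_getElem?_getD]
    cases e : gs[a]? with
    | none => simpa using ih (ev_mem_cl _ _)
    | some g => exact h.2 _ (ih (ev_mem_cl _ _)) g (List.mem_of_getElem? e)

theorem cj_spec {gs : List (CP n)} {r : CP n} {cs : List ℕ} {W : List (List ℕ)}
    (h : cs = W.map fun w => (ev gs w * r * (ev gs w)⁻¹).1) {x : CP n} (hx : x.1 ∈ cs) :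
    ∃ g ∈ cl gs, g * r * g⁻¹ = x := by
  obtain ⟨w, -, e⟩ := List.mem_map.mp (h ▸ hx)
  exact ⟨_, ev_mem_cl _ w, Subtype.ext e⟩

end

/-- Words in a sublist of letters. -/
def Ov (us : List (List ℕ)) (w : List ℕ) : Prop := ∀ a ∈ w, us.getD a [] = [a]

instance decOv (us : List (List ℕ)) : DecidablePred (Ov us) := fun _ => List.decidableBAll _ _

theorem Ov.ev_eq {G : Type*} [Group G] {us : List (List ℕ)} {w : List ℕ} (h : Ov us w) (gs : List G) :
    ev (us.map (ev gs)) w = ev gs w := by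
  rw [ev_map_ev]
  congr 1
  induction w with
  | nil => rfl
  | cons a w ih => rw [List.flatMap_cons, h a List.mem_cons_self, ih fun b hb => h b (List.mem_cons_of_mem _ hb)]; rfl

theorem Ov.append {us : List (List ℕ)} {u w : List ℕ} (h : Ov us u) (h' : Ov us w) : Ov us (u ++ w) :=
  List.forall_mem_append.mpr ⟨h, h'⟩

theorem passM {m : CP 100} (hm : m ∈ cl msM) :
    (m * ev ms [0] = ev ms [0] * m → m * m * m * m = 1 → ∃ u ∈ wC, m = ev ms u) ∧
    (m * ev ms [14] = ev ms [14] * m → (m * m = 1 ∨ m * m = ev ms [5]) →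
      (∃ u ∈ wS0, m = ev ms u) ∨ ∃ u ∈ wS1, m = ev ms u) ∧
    (m * ev ms [2] = ev ms [2] * m → m * ev ms [5] = ev ms [5] * m → m = 1) ∧
    (m * m = 1 → m = 1 ∨ ∃ g ∈ cl ms, g * ev ms [5] * g⁻¹ = m ∨ g * ev ms [13, 14] * g⁻¹ = m) := by
  obtain ⟨w, rfl⟩ := exists_word hm
  have h := chChk_all chM_chk card_msM.le testM_chk w
  obtain ⟨e1, e2, e3, e4, -, -, -, e5, -⟩ := k_eq
  simp only [testM, Bool.and_eq_true, ← e1, ← e2, ← e3, ← e4, ← e5] at h
  obtain ⟨⟨⟨h1, h2⟩, h3⟩, h4⟩ := h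
  refine ⟨fun a b => ?_, fun a b => ?_, fun a b => ?_, fun a => ?_⟩
  · rw [cm_of a, p4_of b] at h1
    exact wdChk_spec wC_chk h1
  · rw [cm_of a, show (_ || _) = true from Bool.or_eq_true_iff.mpr (b.imp sq_of sq_of)] at h2
    exact (Bool.or_eq_true_iff.mp h2).imp (wdChk_spec wS0_chk) (wdChk_spec wS1_chk)
  · rw [cm_of a, cm_of b] at h3
    exact Subtype.ext (Nat.eq_of_beq_eq_true h3)
  · rw [sq_of a] at h4
    simp only [Bool.not_true, Bool.false_or, Bool.or_eq_true, Nat.beq_eq, memN_iff] at h4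
    rcases h4 with (e | e) | e
    · exact .inl (Subtype.ext e)
    · exact .inr ((cj_spec wI1_chk e).imp fun _ h => ⟨h.1, .inl h.2⟩)
    · exact .inr ((cj_spec wI2_chk e).imp fun _ h => ⟨h.1, .inr h.2⟩)

theorem passH {m : CP 100} (hm : m ∈ cl msH) :
    (m * ev ms [6] = ev ms [6] * m → m * ev ms [7] = ev ms [7] * m → m * ev ms [10] = ev ms [10] * m →
      ∃ u ∈ wA, m = ev ms u) ∧
    (m * ev ms [0] = ev ms [0] * m → m ∈ cl xs) ∧
    (m * m = 1 → (∃ i : Fin 100, m • i = i) → m = ev ms [5] ∨ ∃ i : Fin 100, (m * ev ms [5]) • i = i) := by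
  obtain ⟨w, rfl⟩ := exists_word hm
  have h := chChk_all chH_chk card_msH.ge testH_chk w
  obtain ⟨e1, e2, -, e4, e5, e6, e7, -, -⟩ := k_eq
  simp only [testH, Bool.and_eq_true, ← e1, ← e2, ← e4, ← e5, ← e6, ← e7, force_eq] at h
  generalize ev msH w = m at h ⊢
  generalize ev ms [5] = t at h ⊢
  obtain ⟨⟨h1, h2⟩, h3⟩ := h
  refine ⟨fun a b c => ?_, fun a => ?_, fun a b => ?_⟩
  · rw [cm_of a, cm_of b, cm_of c] at h1
    exact wdChk_spec wA_chk h1
  · rw [cm_of a] at h2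
    obtain ⟨u, -, e⟩ := wdChk_spec w24_chk h2
    exact e ▸ ev_mem_cl _ _
  · rw [sq_of a, (fx_iff _).mpr b] at h3
    rcases Bool.or_eq_true_iff.mp h3 with e | e
    · exact .inl (Subtype.ext (Nat.eq_of_beq_eq_true e))
    · exact .inr ((fx_iff (m * t)).mp (by rwa [val_mul]))

theorem pass1 (w : List ℕ) {m : CP 112} (hm : m = ev m1 w) :
    (m * ev m1 [0] = ev m1 [0] * m → m * m * m * m = 1 → ∃ u ∈ wC1, m = ev m1 u) ∧
    (m * ev m1 [4] = ev m1 [4] * m → (m * m = 1 ∨ m * m = ev m1 [4, 4]) →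
      (m * ev m1 [10] * m * ev m1 [10] = ev m1 [10] * m * ev m1 [10] * m ∨
        m * ev m1 [10] * m * ev m1 [10] = ev m1 [10] * m * ev m1 [10] * m * ev m1 [4, 4]) →
      ∃ u ∈ wQ1, m = ev m1 u) := by
  have h := chChk_all ch1_chk card_m1.ge test1_chk w
  rw [← hm] at h
  obtain ⟨e1, e2, e3, e4, e5⟩ := l_eq
  simp only [test1, Bool.and_eq_true, ← e1, ← e2, ← e3, ← e4, ← e5] at h
  obtain ⟨h1, h2⟩ := h
  refine ⟨fun a b => ?_, fun a b c => ?_⟩
  · rw [cm_of a, p4_of b] at h1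
    exact wdChk_spec wC1_chk h1
  · rw [cm_of a, show (_ || _) = true from Bool.or_eq_true_iff.mpr (b.imp sq_of sq_of),
      show (_ || _) = true from Bool.or_eq_true_iff.mpr (c.imp q1_of q2_of)] at h2
    exact wdChk_spec wQ1_chk h2

end Cfsg.Agent.HSR
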