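import Cfsg.Agent.HSR.PassD

/-! Exhaustive checks in the models. -/

set_option autoImplicit false
set_option maxRecDepth 100000

namespace Cfsg.Agent.HSR

open Subgroup MulAction Cfsg.Agent.Mat

/-- Lazy test of commutation. -/
def cm (n a b : ℕ) : Bool := lz n [a, b] [b, a]

/-- The test on the elements of the first local subgroup. -/
def testM (a : ℕ) : Bool :=
  (!cm 100 a ky || !lz 100 [a, a, a, a] [] || memN a cC) &&
  (!cm 100 a kc || !(lz 100 [a, a] [k1] || lz 100 [a, a] [kt]) || memN a cS0 || memN a cS1) &&
  (!cm 100 a kx || !cm 100 a kt || Nat.beq a k1) &&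
  (!lz 100 [a, a] [k1] || Nat.beq a k1 || memN a cI1 || memN a cI2)

theorem testM_chk : allP 100 testM chM (pack id 100) = true := by decide +kernel

/-- The test on the elements of the involution centralizer. -/
def testH (a : ℕ) : Bool :=
  (!cm 100 a kv || !cm 100 a kr || !cm 100 a kp || memN a cA) && (!cm 100 a ky || memN a c24) &&
  (!lz 100 [a, a] [k1] || !fx 100 a || Nat.beq a kt || force (cmul 100 a kt) (fx 100))

theorem testH_chk : allP 100 testH chH (pack id 100) = true := by decide +kernel

/-- The test on the elements of the nonsplit extension. -/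
def test1 (a : ℕ) : Bool :=
  (!cm 112 a ly || !lz 112 [a, a, a, a] [] || memN a cC1) &&
  (!cm 112 a lc || !(lz 112 [a, a] [l1] || lz 112 [a, a] [lt]) ||
    !(lz 112 [a, ls, a, ls] [ls, a, ls, a] || lz 112 [a, ls, a, ls] [ls, a, ls, a, lt]) || memN a cQ1)

theorem test1_chk : allP 112 test1 ch1 (pack id 112) = true := by decide +kernel

end Cfsg.Agent.HSR
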