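import Cfsg.Agent.HSR.MStr
import Cfsg.Prelude.Def_Solvable
import Cfsg.Prelude.Def_CaseTheorems
import Cfsg.Prelude.Def_Transfer

/-! First consequences of the hypotheses. -/

set_option autoImplicit false
set_option linter.unusedSectionVars false

namespace Cfsg.Agent.HSR

open Subgroup MulAction Cfsg.Agent.Mat Cfsg.Agent.Local
open scoped commutatorElement

variable {G : Type*} [Group G] [Finite G]

/-- The working form of the hypotheses. -/
structure Hyp (t c0 : G) (H R V M : Subgroup G) (ρ : H →* Equiv.Perm (Fin 5)) : Prop where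
  tt : t * t = 1
  ne : t ≠ 1
  memH : ∀ g, g ∈ H ↔ g * t = t * g
  surj : Function.Surjective ρ
  ker : ∀ g : H, ρ g = 1 ↔ g.1 ∈ R
  cardR : Nat.card R = 64
  cardH : Nat.card H = 7680
  cardM : Nat.card M = 10752
  RH : R ≤ H
  norm : ∀ g ∈ H, ∀ a ∈ R, g * a * g⁻¹ ∈ R
  comm : ∀ a ∈ R, ∀ b ∈ R, a * b = b * a ∨ a * b = b * a * t
  sq : ∀ a ∈ R, a * a = 1 ∨ a * a = t
  c0R : c0 ∈ R
  c0c : ∀ a ∈ R, c0 * a = a * c0
  c00 : c0 * c0 = t
  zen : ∀ z ∈ R, (∀ a ∈ R, z * a = a * z) → z = 1 ∨ z = t ∨ z = c0 ∨ z = c0⁻¹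
  tV : t ∈ V
  VR : V ≤ R
  cardV : Nat.card V = 8
  hM : M = normalizer (V : Set G)
  base : ∃ g : Gn G, g.t = t ∧ cl g.bl = M ∧ g.y ≠ 1 ∧ (∀ a ∈ [4, 5, 6, 7, 8, 9], ∀ b ∈ [4, 5, 6, 7, 8, 9],
      g.bl.getD a 1 * g.bl.getD b 1 = g.bl.getD b 1 * g.bl.getD a 1) ∧
    ((∀ r ∈ relsB ++ [[10, 10], [10, 2, 10, 2, 10, 2]], ev g.bl r = 1) ∨
      ∀ r ∈ relsB ++ [[10, 10], [10, 2, 10, 2, 10, 2, 7]], ev g.bl r = 1)

theorem exists_hyp (t : G) (ht : orderOf t = 2) (H : Subgroup G) (hH : H = Subgroup.centralizer ({t} : Set G))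
    (R : Subgroup G) (hR : R = (Cfsg.pCore 2 H).map H.subtype)
    (Cy E : Subgroup G) (hCy : IsCyclic Cy) (hCycard : Nat.card Cy = 4)
    (hCyle : Cy ≤ R ⊓ Subgroup.centralizer (R : Set G))
    (hEle : E ≤ R) (hEex : Cfsg.IsExtraspecial 2 E) (hEcard : Nat.card E = 32)
    (hprod : Cy ⊔ E = R) (hmeet : Cy ⊓ E = E ⊓ Subgroup.centralizer (E : Set G))
    [(Cfsg.pCore 2 H).Normal] (eH : H ⧸ Cfsg.pCore 2 H ≃* Equiv.Perm (Fin 5))
    (V : Subgroup G) (hVcomm : IsMulCommutative V) (hVexp : ∀ v ∈ V, v ^ 2 = 1) (hVcard : Nat.card V = 8)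
    (hVR : V ≤ R) (M : Subgroup G) (hM : M = Subgroup.normalizer (V : Set G))
    (eOM : Cfsg.pCore 2 M ≃* Multiplicative (ZMod 4 × ZMod 4 × ZMod 4))
    [(Cfsg.pCore 2 M).Normal] (eM : M ⧸ Cfsg.pCore 2 M ≃* GL (Fin 3) (ZMod 2)) :
    ∃ c0 ρ, Hyp t c0 H R V M ρ := by
  classical
  have tt : t * t = 1 := by rw [← pow_two, ← ht, pow_orderOf_eq_one]
  have ne : t ≠ 1 := fun e => by simp [e] at ht
  have memH : ∀ g, g ∈ H ↔ g * t = t * g := fun g => by rw [hH, mem_centralizer_singleton_iff]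
  have RH : R ≤ H := hR ▸ map_subtype_le _
  have cyc : ∀ z ∈ Cy, ∀ a ∈ R, z * a = a * z := fun z hz a ha => ((mem_inf.mp (hCyle hz)).2 a ha).symm
  have CyR : Cy ≤ R := hCyle.trans inf_le_left
  have nE : E ≤ normalizer (Cy : Set G) := fun e he => mem_normalizer_iff''.mpr fun z =>
    ⟨fun hz => by rwa [mul_assoc, cyc z hz e (hEle he), inv_mul_cancel_left], fun hz => by
      have := cyc _ hz e (hEle he)
      rw [show z = e * (e⁻¹ * z * e) * e⁻¹ by group, ← this, mul_inv_cancel_right]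
      exact hz⟩
  have dec : ∀ a ∈ R, ∃ z ∈ Cy, ∃ e ∈ E, z * e = a := fun a ha =>
    (mem_sup_of_right_le_normalizer nE).mp (hprod ▸ ha)
  have zE : ∀ e : E, e ∈ center E ↔ e.1 ∈ Cy := fun e => by
    have : e.1 ∈ Cy ⊓ E ↔ e.1 ∈ E ⊓ centralizer (E : Set G) := by rw [hmeet]
    simp only [mem_inf, e.2, and_true, true_and] at this
    rw [this, mem_center_iff, mem_centralizer_iff]
    exact ⟨fun h a ha => congrArg Subtype.val (h ⟨a, ha⟩), fun h a => Subtype.ext (h a a.2)⟩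
  have cardR : Nat.card R = 64 := by
    have h1 := card_sup_mul_card_inf nE
    rw [hprod, hCycard, hEcard, show Cy ⊓ E = (center E).map E.subtype from Subgroup.ext fun a =>
      ⟨fun h => ⟨⟨a, h.2⟩, (zE _).mpr h.1, rfl⟩, by rintro ⟨e, he, rfl⟩; exact ⟨(zE e).mp he, e.2⟩⟩, card_subtype,
      hEex.2] at h1
    omega
  have zen0 : ∀ z ∈ R, (∀ a ∈ R, z * a = a * z) → z ∈ Cy := fun z hz h => by
    obtain ⟨u, hu, e, he, rfl⟩ := dec z hz
    refine mul_mem hu ((zE ⟨e, he⟩).mp (mem_center_iff.mpr fun a => Subtype.ext ?_))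
    have := h a (hEle a.2)
    rw [← mul_assoc, ← cyc u hu a (hEle a.2), mul_assoc, mul_assoc] at this
    exact (mul_left_cancel this).symm
  have tH : t ∈ H := (memH t).mpr rfl
  have tR : t ∈ R := hR ▸ ⟨⟨t, tH⟩, le_pCore (N := zpowers (⟨t, tH⟩ : H)) ⟨fun a ha g => by
      obtain ⟨k, rfl⟩ := mem_zpowers_iff.mp ha
      have : Commute g ⟨t, tH⟩ := Subtype.ext ((memH g).mp g.2)
      rw [(this.zpow_right k).eq, mul_inv_cancel_right]
      exact ha⟩ (CIT.two_of_sq (Subtype.ext tt)).isPGroup (mem_zpowers _), rfl⟩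
  obtain ⟨c0, hc0⟩ := IsCyclic.exists_generator (α := Cy)
  have o4 : orderOf c0.1 = 4 := by rw [orderOf_coe, orderOf_eq_card_of_forall_mem_zpowers hc0, hCycard]
  have c4 : c0.1 * c0.1 * (c0.1 * c0.1) = 1 := by rw [← pow_orderOf_eq_one c0.1, o4]; simp [pow_succ, mul_assoc]
  have cy4 : ∀ z ∈ Cy, z = 1 ∨ z = c0.1 * c0.1 ∨ z = c0.1 ∨ z = c0.1⁻¹ := fun z hz => by
    obtain ⟨i, hi, e⟩ := Finset.mem_image.mp (mem_zpowers_iff_mem_range_orderOf.mp (hc0 ⟨z, hz⟩))
    rw [← orderOf_coe, o4, Finset.mem_range] at hi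
    rw [show z = c0.1 ^ i from congrArg Subtype.val e.symm]
    interval_cases i
    · simp
    · simp
    · simp [pow_two]
    · exact .inr (.inr (.inr (eq_inv_of_mul_eq_one_left (by rw [← c4]; simp [pow_succ, mul_assoc]))))
  have c2 : c0.1 * c0.1 ≠ 1 := fun e => by
    have := orderOf_dvd_of_pow_eq_one ((pow_two _).trans e)
    rw [o4] at this
    omega
  have c00 : c0.1 * c0.1 = t := by
    rcases cy4 t (zen0 t tR fun a ha => ((memH a).mp (RH ha)).symm) with e | e | e | e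
    · exact absurd e ne
    · exact e.symm
    · exact absurd (e ▸ tt) c2
    · rw [e, ← mul_inv_rev, inv_eq_one] at tt; exact absurd tt c2
  rw [c00] at cy4
  have sqC : ∀ z ∈ Cy, z * z = 1 ∨ z * z = t := fun z hz => by
    rcases cy4 z hz with rfl | rfl | rfl | rfl
    · simp
    · exact .inl tt
    · exact .inr c00
    · exact .inr (by rw [← mul_inv_rev, c00, inv_eq_of_mul_eq_one_right tt])
  have zE' : ∀ e : E, e ∈ center E → e.1 = 1 ∨ e.1 = t := fun e he => by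
    have h1 : e * e = 1 := by
      have := pow_card_eq_one' (x := (⟨e, he⟩ : center E))
      rw [hEex.2, pow_two] at this
      exact congrArg Subtype.val this
    have h2 : e.1 * e.1 = 1 := congrArg Subtype.val h1
    rcases cy4 _ ((zE e).mp he) with e1 | e1 | e1 | e1
    exacts [.inl e1, .inr e1, absurd (e1 ▸ h2) c2, by rw [e1, ← mul_inv_rev, inv_eq_one] at h2; exact absurd h2 c2]
  have cE : ∀ a ∈ E, ∀ b ∈ E, a * b = b * a ∨ a * b = b * a * t := fun a ha b hb => by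
    have := zE' ⁅(⟨a, ha⟩ : E)⁻¹, (⟨b, hb⟩ : E)⁻¹⁆ (hEex.1.2.2 ▸ commutator_mem_commutator (mem_top _) (mem_top _))
    simp only [commutatorElement_def, inv_inv, coe_mul, coe_inv] at this
    refine this.imp (fun e => ?_) fun e => ?_
    · calc _ = b * a * (a⁻¹ * b⁻¹ * a * b) := by group
        _ = _ := by rw [e, mul_one]
    · calc _ = b * a * (a⁻¹ * b⁻¹ * a * b) := by group
        _ = _ := by rw [e]
  have comm : ∀ a ∈ R, ∀ b ∈ R, a * b = b * a ∨ a * b = b * a * t := fun a ha b hb => by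
    obtain ⟨u, hu, e, he, rfl⟩ := dec a ha
    obtain ⟨u', hu', e', he', rfl⟩ := dec b hb
    have h1 : ∀ u ∈ Cy, ∀ u' ∈ Cy, ∀ e ∈ E, ∀ e' : G, u * e * (u' * e') = u * u' * (e * e') := fun u _ u' hu' e he e' => by
      rw [mul_assoc, ← mul_assoc e, ← cyc u' hu' e (hEle he)]; group
    rw [h1 u hu u' hu' e he, h1 u' hu' u hu e' he', cyc u hu u' (CyR hu')]
    exact (cE e he e' he').imp (fun e => by rw [e]) fun e => by rw [e]; group
  have sq : ∀ a ∈ R, a * a = 1 ∨ a * a = t := fun a ha => by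
    obtain ⟨u, hu, e, he, rfl⟩ := dec a ha
    have h1 := zE' (⟨e, he⟩ * ⟨e, he⟩) (mem_center_iff.mpr fun b => Subtype.ext (by
      show b * (e * e) = e * e * b
      rcases cE e he b b.2 with h | h
      · rw [← mul_assoc, ← h, mul_assoc, ← h, mul_assoc]
      · calc _ = b * e * (t * t) * e := by rw [tt, mul_one, mul_assoc]
          _ = e * b * (t * e) := by rw [h]; simp only [mul_assoc]
          _ = e * (b * e * t) := by rw [← (memH e).mp (RH (hEle he))]; simp only [mul_assoc]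
          _ = _ := by rw [← h, mul_assoc]))
    rw [mul_assoc, ← mul_assoc e, ← cyc u hu e (hEle he), mul_assoc, ← mul_assoc]
    rcases sqC u hu with h | h <;> rcases h1 with h' | h' <;> rw [h, show e * e = _ from h'] <;> simp [tt]
  have Vc : ∀ a ∈ V, ∀ b ∈ V, a * b = b * a := fun a ha b hb =>
    congrArg Subtype.val (hVcomm.is_comm.comm (⟨a, ha⟩ : V) ⟨b, hb⟩)
  have tV : t ∈ V := by_contra fun h => by
    have h1 : ∀ a ∈ V, a ∈ Cy → a = 1 := fun a ha hb => by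
      have h2 := hVexp a ha
      rw [pow_two] at h2
      rcases cy4 a hb with e1 | e1 | e1 | e1
      exacts [e1, absurd (e1 ▸ ha) h, absurd (e1 ▸ h2) c2,
        by rw [e1, ← mul_inv_rev, inv_eq_one] at h2; exact absurd h2 c2]
    have nV : V ≤ normalizer (Cy : Set G) := hVR.trans (hprod ▸ sup_le le_normalizer nE)
    have h2 := card_sup_of_disjoint nV (disjoint_def.mpr fun h1' h2' => h1 _ h2' h1')
    have h3 : Cy ⊔ V ≤ R := sup_le CyR hVR
    have h4 := card_mul_relIndex h3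
    rw [h2, hCycard, hVcard, cardR] at h4
    obtain ⟨g, hg⟩ := index_eq_two_iff.mp (show ((Cy ⊔ V).subgroupOf R).index = 2 from
      (by omega : (Cy ⊔ V).relIndex R = 2))
    obtain ⟨a, ha, a1, ag⟩ : ∃ a ∈ V, a ≠ 1 ∧ a * g = g * a := by
      have := Fintype.ofFinite V
      obtain ⟨a, b, c, h5, h6, h7⟩ : ∃ a b c : V, a ≠ b ∧ a ≠ c ∧ b ≠ c :=
        Fintype.two_lt_card_iff.mp (by rw [← Nat.card_eq_fintype_card]; omega)
      have h8 : ∀ a b : V, a ≠ b → ((a.1 * g.1 = g.1 * a.1 ∧ b.1 * g.1 = g.1 * b.1) ∨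
          (a.1 * g.1 = g.1 * a.1 * t ∧ b.1 * g.1 = g.1 * b.1 * t)) →
          ∃ a ∈ V, a ≠ 1 ∧ a * g = g * a := fun a b hab e => ⟨_, (a⁻¹ * b).2, fun e => hab
            (inv_mul_eq_one.mp (Subtype.ext e)), by
        have ta := (memH _).mp (RH (hVR a.2))
        have tb := (memH _).mp (RH (hVR b.2))
        rcases e with ⟨e1, e2⟩ | ⟨e1, e2⟩
        · exact ((Commute.inv_left e1).mul_left e2).eq
        · calc (a.1⁻¹ * b) * g = a.1⁻¹ * (a * g) * t⁻¹ * a.1⁻¹ * b * t := by rw [mul_assoc, e2, e1]; group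
            _ = g * a.1⁻¹ * (a * t * a.1⁻¹)⁻¹ * (b * t) := by group
            _ = _ := by rw [ta, tb, coe_mul, coe_inv]; group⟩
      rcases comm _ (hVR a.2) _ g.2 with e1 | e1 <;> rcases comm _ (hVR b.2) _ g.2 with e2 | e2 <;>
        rcases comm _ (hVR c.2) _ g.2 with e3 | e3
      exacts [h8 a b h5 (.inl ⟨e1, e2⟩), h8 a b h5 (.inl ⟨e1, e2⟩), h8 a c h6 (.inl ⟨e1, e3⟩),
        h8 b c h7 (.inr ⟨e2, e3⟩), h8 b c h7 (.inl ⟨e2, e3⟩), h8 a c h6 (.inr ⟨e1, e3⟩), h8 a b h5 (.inr ⟨e1, e2⟩),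
        h8 a b h5 (.inr ⟨e1, e2⟩)]
    have h5 : ∀ b ∈ Cy ⊔ V, a * b = b * a := fun b hb => by
      obtain ⟨u, hu, v, hv, rfl⟩ := (mem_sup_of_right_le_normalizer nV).mp hb
      exact ((Commute.symm (cyc u hu a (hVR ha))).mul_right (Vc a ha v hv)).eq
    refine a1 (h1 a ha (zen0 a (hVR ha) fun b hb => ?_))
    rcases hg ⟨b, hb⟩ with ⟨e, -⟩ | ⟨e, -⟩
    · have := (Commute.mul_right (h5 _ e) (Commute.inv_right ag)).eq
      simpa using this
    · exact h5 b e
  let ρ : H →* Equiv.Perm (Fin 5) := eH.toMonoidHom.comp (QuotientGroup.mk' _)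
  have ker : ∀ g : H, ρ g = 1 ↔ g.1 ∈ R := fun g =>
    eH.map_eq_one_iff.trans ((QuotientGroup.eq_one_iff g).trans (hR ▸ (mem_map_iff_mem H.subtype_injective).symm))
  have cardH : Nat.card H = 7680 := by
    rw [card_eq_card_quotient_mul_card_subgroup (pCore 2 H), Nat.card_congr eH.toEquiv, ← card_subtype, ← hR, cardR,
      Nat.card_perm, Nat.card_fin]
    rfl
  let π : M →* GL (Fin 3) (ZMod 2) := eM.toMonoidHom.comp (QuotientGroup.mk' _)
  have kπ : π.ker = pCore 2 M := Subgroup.ext fun g => eM.map_eq_one_iff.trans (QuotientGroup.eq_one_iff g)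
  let ε := (MulEquiv.subgroupCongr kπ).trans eOM
  have cQ : Nat.card π.ker = 64 := by rw [Nat.card_congr ε.toEquiv]; simp
  have cardM : Nat.card M = 10752 := by
    rw [card_eq_card_quotient_mul_card_subgroup (pCore 2 M), Nat.card_congr eM.toEquiv, ← kπ, cQ, card_GL3]
  have VM : V ≤ M := hM ▸ le_normalizer
  have qh : QH π ⟨t, VM tV⟩ := ⟨eM.surjective.comp (QuotientGroup.mk'_surjective _),
    fun a b => ε.injective (by rw [map_mul, map_mul, mul_comm]),
    fun a => ε.injective (by rw [map_pow, map_one]; generalize ε a = u; revert u; decide), cQ, fun a ha aa => by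
      obtain ⟨u, hu⟩ := (by decide : ∀ u : Multiplicative (ZMod 4 × ZMod 4 × ZMod 4), u * u = 1 → ∃ v, v * v = u)
        (ε ⟨a, ha⟩) (by rw [← map_mul, show (⟨a, ha⟩ * ⟨a, ha⟩ : π.ker) = 1 from Subtype.ext aa, map_one])
      exact ⟨_, (ε.symm u).2, congrArg Subtype.val (by rw [← map_mul, hu, MulEquiv.symm_apply_apply] :
        ε.symm u * ε.symm u = ⟨a, ha⟩)⟩, by
      have : {a | a ∈ π.ker ∧ a * a = 1} = (fun u => (ε.symm u).1) ''
          ↑(Finset.univ.filter fun u : Multiplicative (ZMod 4 × ZMod 4 × ZMod 4) => u * u = 1) := by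
        ext a
        simp only [Set.mem_setOf_eq, Finset.coe_filter, Finset.mem_univ, true_and, Set.mem_image]
        constructor
        · rintro ⟨ha, aa⟩
          exact ⟨ε ⟨a, ha⟩, by rw [← map_mul, show (⟨a, ha⟩ * ⟨a, ha⟩ : π.ker) = 1 from Subtype.ext aa, map_one],
            by simp⟩
        · rintro ⟨u, hu, rfl⟩
          exact ⟨(ε.symm u).2, by rw [← coe_mul, ← map_mul, hu, map_one, coe_one]⟩
      rw [this, Set.ncard_image_of_injective _ fun _ _ e => ε.symm.injective (Subtype.ext e), Set.ncard_coe_finset]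
      decide,
    kπ ▸ le_pCore (N := V.subgroupOf M) (hM ▸ normal_in_normalizer) (IsPGroup.of_card (n := 3) (by
      rw [Nat.card_congr (subgroupOfEquivOfLe VM).toEquiv, hVcard]; rfl)) tV,
    Subtype.ext tt, fun e => ne (congrArg Subtype.val e), fun x x7 e => by
      have h1 := orderOf_dvd_card_of_mem ((memH x).mpr (congrArg Subtype.val e))
      rw [cardH, orderOf_coe] at h1
      exact orderOf_eq_one_iff.mp (Nat.eq_one_of_dvd_coprimes (by decide) h1 (orderOf_dvd_of_pow_eq_one x7))⟩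
  obtain ⟨X, Y, S, p⟩ := exists_preL
  obtain ⟨g, b1, b2, b3, b4, b5, b6, b7⟩ := qh.exists_base p
  have hl : g.bl.length = 12 := rfl
  have b8 : ∀ (u : List (List ℕ)), (∀ r ∈ u, ev g.bl r = 1) → ∀ r ∈ relsB ++ u, ev g.bl r = 1 := fun u hu =>
    List.forall_mem_append.mpr ⟨b2.rels, hu⟩
  have b9 : Nat.card (cl g.bl) = 10752 := by rw [b3, card_top, cardM]
  have b10 : g.s * g.s = 1 := b6.resolve_right fun e => by
    rw [← b1, Gn.t] at e
    rcases b7 with e' | e'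
    · have := presB2 g.bl hl (b8 _ (by simpa [ev, Gn.bl, ← mul_assoc, e, pow_succ] using e'))
      omega
    · have := presB3 g.bl hl (b8 _ (by simpa [ev, Gn.bl, ← mul_assoc, e, pow_succ, mul_inv_eq_one] using e'))
      omega
  have b11 : ∀ r, ev g.bl r = 1 → ev (g.map M.subtype).bl r = 1 := fun r e => by
    rw [Gn.map_bl, ← map_ev, e, map_one]
  refine ⟨c0, ρ, tt, ne, memH, eH.surjective.comp (QuotientGroup.mk'_surjective _), ker, cardR, cardH, cardM, RH,
    fun g hg a ha => (ker (⟨g, hg⟩ * ⟨a, RH ha⟩ * ⟨g, hg⟩⁻¹)).mp (by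
      rw [map_mul, map_mul, (ker ⟨a, RH ha⟩).mpr ha, map_inv, mul_one, mul_inv_cancel]), comm, sq, CyR c0.2,
    cyc _ c0.2, c00, fun z hz h => cy4 z (zen0 z hz h), tV, hVR, hVcard, hM, g.map M.subtype,
    congrArg Subtype.val b1, ?_, fun e => b5 (Subtype.ext e), fun a ha b hb => ?_, b7.imp (fun e r hr =>
      b11 r (b8 _ (by simpa [ev, Gn.bl, ← mul_assoc, b10, pow_succ] using e) r hr)) fun e r hr =>
      b11 r (b8 _ (by simpa [ev, Gn.bl, ← mul_assoc, b10, pow_succ, mul_inv_eq_one] using e) r hr)⟩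
  · have := congrArg (map M.subtype) b3
    rw [cl, MonoidHom.map_closure, ← MonoidHom.range_eq_map, range_subtype] at this
    refine Eq.trans ?_ this
    rw [Gn.map_bl, cl]
    congr 1
    ext a
    simp only [List.mem_map, Set.mem_setOf_eq, Set.mem_image]
  · have n1 := π.normal_ker.conj_mem
    have h1 : ∀ a ∈ [4, 5, 6, 7, 8, 9], g.bl.getD a 1 ∈ π.ker := by
      simp only [List.forall_mem_cons]
      exact ⟨b4, inv_mem b4, n1 _ b4 _, inv_mem (n1 _ b4 _), n1 _ (n1 _ b4 _) _, inv_mem (n1 _ (n1 _ b4 _) _), by simp⟩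
    rw [Gn.map_bl, ← map_one M.subtype, List.getD_map, List.getD_map, ← map_mul, ← map_mul,
      qh.comm' (h1 a ha) (h1 b hb)]

end Cfsg.Agent.HSR
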