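import Cfsg.Agent.HSR.StR
import Cfsg.Agent.HSR.ModelE
import Cfsg.Agent.Mat.Fin2

/-! The centralizer of the involution and the embedding of the model. -/

set_option autoImplicit false
set_option linter.unusedSectionVars false
set_option maxRecDepth 100000

namespace Cfsg.Agent.HSR

open Subgroup MulAction Cfsg.Agent.Mat Cfsg.Agent.Local

attribute [local irreducible] cmul cinv pack ms msM msH msB msP m1 xs ps

variable {G : Type*} [Group G] [Finite G]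

namespace St

variable {g : Gn G} {H R V M : Subgroup G} {ρ : H →* Equiv.Perm (Fin 5)} (S : St g H R V M ρ)
include S

theorem R_mem (h : G) {u : List ℕ} (hu : u ∈ wS0) : ev (g.l h) u ∈ R :=
  mem_of_subset_list (l := wS0.map (ev (g.l h))) (fun _ ha => List.mem_map.mpr (S.R_sub h ha))
    (by rw [S.cardR, List.length_map, ov_chk.2.2.2.2.2.2.2.2.2.2.1]) _ (List.mem_map_of_mem hu)

theorem cent {k : G} (hk : k ∈ H) (e : ∀ a ∈ R, k * a = a * k) : k ∈ zpowers g.c := by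
  have hN : ((centralizer (R : Set G)).subgroupOf H).Normal := ⟨fun n hn a b hb => by
    have : _ * n.1 = n.1 * _ := hn _ (S.norm _ (inv_mem a.2) b hb)
    show b * (a.1 * n * a.1⁻¹) = a.1 * n * a.1⁻¹ * b
    calc _ = a.1 * (a.1⁻¹ * b * a.1⁻¹⁻¹ * n) * a.1⁻¹ := by group
      _ = _ := by rw [this]; group⟩
  have := hN.map ρ S.surj
  by_cases h : ((centralizer (R : Set G)).subgroupOf H).map ρ = ⊥
  · have h1 := (S.ker ⟨k, hk⟩).mp ((eq_bot_iff_forall _).mp h _ ⟨⟨k, hk⟩, fun a ha => (e a ha).symm, rfl⟩)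
    rcases S.zen k h1 e with e | e | e | e <;> rw [e]
    exacts [one_mem _, mul_mem (mem_zpowers _) (mem_zpowers _), mem_zpowers _, inv_mem (mem_zpowers _)]
  exfalso
  have yH := S.mH S.yc
  obtain ⟨n, hn, e1⟩ := Equiv.Perm.alternatingGroup_le_of_normal (by simp) ((nontrivial_iff_ne_bot _).mpr h)
    (show ρ ⟨_, yH⟩ ∈ _ by
      rw [Equiv.Perm.mem_alternatingGroup, show (⟨_, yH⟩ : H) = ⟨_, yH⟩ * ⟨_, yH⟩ * (⟨_, yH⟩ * ⟨_, yH⟩) from
        Subtype.ext (by simp [← mul_assoc, S.y3]), map_mul, map_mul, Int.units_mul_self])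
  have h1 := (S.ker (n⁻¹ * ⟨_, yH⟩)).mp (by rw [map_mul, map_inv, e1, inv_mul_cancel])
  have h2 : g.w = n.1⁻¹ * g.y * g.v * (n.1⁻¹ * g.y)⁻¹ := by
    have : _ * n.1 = n.1 * _ := hn _ (S.VR S.wV')
    calc _ = n.1⁻¹ * (n * g.w) := by group
      _ = _ := by rw [← this, Gn.w]; group
  rcases S.comm _ h1 _ (S.VR S.vV) with e | e <;> rw [show n.1⁻¹ * g.y * g.v = _ from e] at h2
  · exact absurd (by simpa [ev, Gn.l, mul_assoc] using h2) ((S.L 1).ne [8] [6])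
  · rw [mul_assoc g.v, (S.memH _).mp (S.RH h1), ← mul_assoc] at h2
    exact absurd (by simpa [ev, Gn.l, mul_assoc] using h2) ((S.L 1).ne [8] [6, 5])

theorem trk {h : G} (a1 : h * g.y = g.y * h) (a2 : h * g.c * h⁻¹ = g.c⁻¹) (a3 : h * h = 1 ∨ h * h = g.t)
    (a4 : h * g.v * h⁻¹ = g.r) {w : List ℕ} (hw : ∀ a ∈ w, a ∈ [13, 4, 7, 17])
    (hm : ∀ j ∈ gR, ev ms w * ev ms [j] = ev ms [j] * ev ms w) : ev (g.l h) w ∈ zpowers g.c := by
  have hH := S.mH' a2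
  have ov : ∀ u : List ℕ, (∀ b ∈ u, b ∈ gR) → Ov usM u := fun u hu b hb =>
    (by decide : ∀ b ∈ gR, usM.getD b [] = [b]) b (hu b hb)
  have a5 : h * g.r * h⁻¹ = g.v := by
    rw [← a4, show h * (h * g.v * h⁻¹) * h⁻¹ = h * h * g.v * (h * h)⁻¹ by group]
    rcases a3 with e | e <;> rw [e]
    exacts [by simp, by rw [← (S.memH _).mp (S.RH (S.VR S.vV)), mul_inv_cancel_right]]
  have a6 : ∀ a, h * (g.y * a * g.y⁻¹) * h⁻¹ = g.y * (h * a * h⁻¹) * g.y⁻¹ := fun a => by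
    calc _ = h * g.y * a * (h * g.y)⁻¹ := by group
      _ = _ := by rw [a1]; group
  have a7 : ∀ p ∈ [(14, 15), (15, 14), (6, 7), (7, 6), (8, 9), (9, 8)],
      ev (g.l h) [13, p.1] = ev (g.l h) ([p.2] ++ [13]) := by
    simpa [ev, Gn.l, ← mul_inv_eq_iff_eq_mul] using ⟨a2, by rw [← conj_inv, a2, inv_inv], a4, a5,
      by rw [Gn.w, a6, a4, Gn.q], by rw [Gn.q, a6, a5, Gn.w]⟩
  refine S.cent ?_ fun a ha => ?_
  · simpa using mem_words (z := 1) (K := H) (gs := g.l h) (by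
      simpa [ev, Gn.l] using ⟨hH, S.mH' S.sc, by simpa [ev, Gn.l] using S.RH (S.R_mem 1 (u := [7]) (by decide)),
        S.mH (by simpa [ev, Gn.l] using (S.L 1).eq [16, 14] [14, 16])⟩) hw
  obtain ⟨u, hu, rfl⟩ := S.R_sub h ha
  refine comm_words (fun j hj => (track_comm (Γ := gR) (fun a ha j hj => ?_)
    (fun u u' hu hu' => (S.L h).tr (ov u hu) (ov u' hu')) hw (by simpa using hj)).mp (hm j hj))
    (ov_chk.2.2.2.2.1 u hu)
  rcases List.mem_cons.mp ha with rfl | ha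
  · obtain ⟨p, hp, rfl, e⟩ := (by decide : ∀ j ∈ gR, ∃ p ∈ [(14, 15), (15, 14), (6, 7), (7, 6), (8, 9), (9, 8)],
      p.1 = j ∧ p.2 ∈ gR) j hj
    exact ⟨[p.2], by simpa using e, nh_chk p hp, a7 p hp⟩
  · obtain ⟨u, hu, e⟩ := nR_chk a ha j hj
    have o : Ov usM [a] := (by decide : ∀ a ∈ [4, 7, 17], Ov usM [a]) a ha
    exact ⟨u, ov_chk.2.2.2.2.1 u hu, e, ((S.L h).tr (o.append (ov [j] (by simpa using hj)))
      ((ov u (ov_chk.2.2.2.2.1 u hu)).append o)).mp e⟩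

theorem exists_h2 {h : G} (a1 : h * g.y = g.y * h) (a2 : h * g.c * h⁻¹ = g.c⁻¹) (a3 : h * h = 1 ∨ h * h = g.t)
    (a4 : h * g.v * h⁻¹ = g.r) : ∃ h, h ∉ M ∧ h ∈ H ∧ ∀ r ∈ relsh, ev (g.l h) r = 1 := by
  have z1 : ∀ z ∈ zpowers g.c, (∀ k, k * g.c = g.c * k → k * z = z * k) ∧
      (∀ k, k * g.c * k⁻¹ = g.c⁻¹ → k * z = z⁻¹ * k) ∧ z ^ 4 = 1 := by
    rintro _ ⟨m, rfl⟩
    refine ⟨fun k e => (Commute.zpow_right e m).eq, fun k e => mul_inv_eq_iff_eq_mul.mp (by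
      simp only [← conj_zpow, e, inv_zpow]), ?_⟩
    simp only
    rw [← zpow_natCast, ← zpow_mul, mul_comm, zpow_mul, zpow_natCast,
      show g.c ^ 4 = 1 by rw [← S.four S.c0R]; simp [pow_succ], one_zpow]
  obtain ⟨a, ha⟩ : ∃ a, a = g.r * (g.d⁻¹ * (g.s * (g.r * g.d⁻¹))) := ⟨_, rfl⟩
  have b1 : a * a = 1 := by simpa [ev, Gn.l, ha, mul_assoc] using (S.L 1).eq [7, 17, 4, 7, 17, 7, 17, 4, 7, 17] []
  have b2 : a * g.c * a⁻¹ = g.c⁻¹ := mul_inv_eq_iff_eq_mul.mpr (by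
    simpa [ev, Gn.l, ha, mul_assoc] using (S.L 1).eq [7, 17, 4, 7, 17, 14] [15, 7, 17, 4, 7, 17])
  have b3 : g.s * a * g.s = a * g.t := by
    simpa [ev, Gn.l, ha, mul_assoc] using (S.L 1).eq [4, 7, 17, 4, 7, 17, 4] [7, 17, 4, 7, 17, 5]
  have b4 : ∀ h, ev (g.l h) [7, 17, 4, 7, 17, 13, 7, 17, 4, 7, 17, 13, 7, 17, 4, 7, 17, 13] = (a * h) ^ 3 :=
    fun h => by simp [ev, Gn.l, ha, mul_assoc, pow_succ]
  obtain ⟨h, a1, a2, a3, a4, a5⟩ : ∃ h, h * g.y = g.y * h ∧ h * g.c * h⁻¹ = g.c⁻¹ ∧ (h * h = 1 ∨ h * h = g.t) ∧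
      h * g.v * h⁻¹ = g.r ∧ (a * h) ^ 3 = 1 := by
    obtain ⟨c1, c2, c3⟩ := z1 _ (b4 h ▸ S.trk a1 a2 a3 a4 (by decide) fun j _ => by rw [h_chk.1, one_mul, mul_one])
    have c4 : Commute (a * h) ((a * h) ^ 3) := (Commute.refl _).pow_right 3
    have c5 : ((a * h) * (a * h) ^ 3) ^ 3 = 1 := by rw [c4.mul_pow, ← pow_succ', c3]
    generalize (a * h) ^ 3 = z at *
    refine ⟨h * z, by rw [mul_assoc, ← c1 _ S.yc, ← mul_assoc, a1, mul_assoc], ?_, ?_, ?_, by rwa [← mul_assoc]⟩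
    · rw [mul_assoc h, ← c1 _ rfl, ← a2]; group
    · rwa [mul_assoc, c2 h a2, mul_inv_cancel_left]
    · rw [mul_assoc h, ← c1 _ (S.c0c _ (S.VR S.vV)).symm, ← a4]; group
  have hH := S.mH' a2
  have ht := (S.memH _).mp hH
  have aH := (S.memH _).mp (S.mH' b2)
  have hh : h * h = 1 := a3.resolve_right fun e => S.ne (by
    have c1 : a * h * a = h⁻¹ * a * h⁻¹ := by
      calc _ = (a * h) ^ 3 * h⁻¹ * a⁻¹ * h⁻¹ := by simp [pow_succ, mul_assoc]
        _ = _ := by rw [a5, one_mul, inv_eq_of_mul_eq_one_right b1]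
    calc g.t = a * (h * (a * a) * h) * a := by rw [b1, mul_one, e, aH, mul_assoc, b1, mul_one]
      _ = (a * h * a) * (a * h * a) := by simp only [mul_assoc]
      _ = h⁻¹ * (a * (h * h)⁻¹ * a) * h⁻¹ := by rw [c1]; group
      _ = h⁻¹ * g.t * h⁻¹ := by rw [e, S.ti, aH, mul_assoc g.t, b1, mul_one]
      _ = 1 := by rw [← e]; group)
  have hs : g.s * h * g.s * h = g.t := by
    obtain ⟨c1, c2, c3⟩ := z1 _ (S.trk a1 a2 a3 a4 (w := [4, 13, 4, 13]) (by decide) fun j hj => by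
      rw [h_chk.2.1, h_chk.2.2 j hj])
    rw [show ev (g.l h) [4, 13, 4, 13] = g.s * h * g.s * h by simp [ev, Gn.l, mul_assoc]] at c1 c2 c3
    have c4 : g.s * (a * h) * g.s⁻¹ = g.t * (g.s * h * g.s * h)⁻¹ * (a * h) := by
      calc _ = g.s * a * (g.s * g.s) * h * g.s⁻¹ * (h * h) := by rw [S.ss, hh]; group
        _ = (g.s * a * g.s) * (g.s * h * g.s * h) * h := by rw [inv_eq_of_mul_eq_one_right S.ss]; group
        _ = _ := by rw [b3, aH, mul_assoc g.t, c2 a b2]; group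
    generalize g.s * h * g.s * h = z at *
    have c5 : Commute (a * h) g.c := mul_inv_eq_iff_eq_mul.mp (by
      calc _ = a * (h * g.c * h⁻¹) * a⁻¹ := by group
        _ = _ := by rw [a2, ← conj_inv, b2, inv_inv])
    have c6 : Commute g.t z := c1 _ (S.c0c _ (S.VR S.tV)).symm
    have c7 : (g.t * z⁻¹) ^ 3 = 1 := by
      have := congrArg (· ^ 3) c4
      simp only [conj_pow, a5, mul_one, mul_inv_cancel] at this
      have c9 : Commute (a * h) (g.t * z⁻¹) := (c5.mul_right c5).mul_right (Commute.inv_right (c1 _ c5))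
      rwa [c9.symm.mul_pow, a5, mul_one, eq_comm] at this
    have c8 : (g.t * z⁻¹) ^ 4 = 1 := by
      rw [c6.inv_right.mul_pow, inv_pow, c3, inv_one, mul_one, show 4 = 2 * 2 from rfl, pow_mul, pow_two g.t, S.tt,
        one_pow]
    rw [pow_succ, c7, one_mul, mul_inv_eq_one] at c8
    exact c8.symm
  have hi := inv_eq_of_mul_eq_one_right hh
  refine ⟨h, S.notM a1 a2 a3, hH, ?_⟩
  simp only [relsh, List.forall_mem_cons, b4, a5]
  rw [hi] at a2 a4
  have rr : g.r * g.r = 1 := by simpa [ev, Gn.l] using (S.L 1).eq [7, 7] []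
  simp only [ev, Gn.l, List.getD_cons_succ, List.getD_cons_zero, mul_one, ← mul_assoc, hh, a2, a4, hs, S.tt, rr,
    inv_mul_cancel, true_and, List.not_mem_nil, false_imp_iff, implies_true, and_true]
  rw [a1, mul_assoc g.y, hh, mul_one, mul_inv_cancel]

theorem locH {h : G} (a1 : h ∉ M) (a2 : h ∈ H) (a3 : ∀ r ∈ relsh, ev (g.l h) r = 1) : Loc usH H (g.l h) := by
  have h1 : cl (usH.map (ev (g.l h))) ≤ H := cl_le (by
    have c : ∀ a ∈ [0, 1, 6, 7, 8, 9, 14, 15, 16, 17, 18, 19], ev (g.l h) [a] ∈ H := fun a ha => S.mH (by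
      simpa [ev, Gn.l] using (S.L h).eq [a, 14] [14, a] (by revert a; decide +kernel))
    have sH := S.mH' S.sc
    simp only [List.forall_mem_cons] at c
    obtain ⟨c0, c1, c2, c3, c4, c5, c6, c7, c8, c9, c10, c11, -⟩ := c
    simp only [usH, List.map_cons, List.forall_mem_cons, ev_nil, one_mem, c0, c1, c2, c3, c4, c5, c6, c7, c8, c9, c10,
      c11, true_and]
    simpa [ev, Gn.l] using ⟨sH, S.RH (S.VR S.tV), mul_mem (inv_mem (S.mH S.yc)) sH, a2⟩)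
  have h2 : cl (usP.map (ev (g.l 1))) ≤ cl (usH.map (ev (g.l h))) := cl_le fun x hx => by
    obtain ⟨u, hu, rfl⟩ := List.mem_map.mp hx
    obtain ⟨o1, o2⟩ := (by decide : ∀ u ∈ usP, Ov usM u ∧ Ov usH u) u hu
    rw [← g.l_usM h, o1.ev_eq, ← o2.ev_eq]
    exact ev_mem_cl _ _
  have h3 : cl (usP.map (ev (g.l 1))) ≤ M := cl_le fun x hx => by
    obtain ⟨u, hu, rfl⟩ := List.mem_map.mp hx
    exact (S.L 1).mem ((by decide : ∀ u ∈ usP, Ov usM u) u hu)
  have h4 := ((locM S.gen S.cardM S.rels 1).2.1.map usP).card_eq (by simp)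
  rw [← msP_eq] at h4
  have h5 := card_msP
  have h6 := card_dvd_of_le h1
  have h7 := card_dvd_of_le h2
  have h8 := Nat.dvd_gcd (h7.trans h6) (card_dvd_of_le h3)
  rw [S.cardH, S.cardM, show Nat.gcd 7680 10752 = 1536 from rfl] at h8
  have h9 : Nat.card (cl (usP.map (ev (g.l 1)))) = 1536 := le_antisymm (Nat.le_of_dvd (by decide) h8) (h4 ▸ h5)
  have h10 : Nat.card (cl (usH.map (ev (g.l h)))) = 7680 := by
    obtain ⟨k, hk⟩ := h7
    rw [S.cardH, hk, h9, show 7680 = 1536 * 5 from rfl, Nat.mul_dvd_mul_iff_left (by decide)] at h6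
    rcases (Nat.dvd_prime Nat.prime_five).mp h6 with rfl | rfl
    · exact absurd (h3 ((eq_of_le_of_card_ge h2 (by omega)).ge (mem_cl (by simp [usH, ev, Gn.l])))) a1
    · rw [hk, h9]
  refine .of_tr ov_chk.2.1 (tr_of_pres (by simp) presH (msH_eq ▸ card_msH) h10.ge (msH_eq ▸ relsH_msH) ?_)
    (eq_of_le_of_card_ge h1 (by rw [h10, S.cardH]))
  simp only [List.forall_mem_append]
  refine ⟨⟨fun r hr => ?_, by simp [relsT, usH, ev]⟩, fun r hr => ?_⟩
  · obtain ⟨o1, o2⟩ := ov_chk.2.2.2.2.2.2.2.2.1 r hr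
    rw [o2.ev_eq]
    refine ((S.L h).tr o1 (w' := []) (by decide)).mp ?_
    rw [← o2.ev_eq, ← msH_eq]
    exact relsH_msH r (List.mem_append_left _ (List.mem_append_left _ hr))
  · rw [((by decide : ∀ r ∈ relsh, Ov usH r) r hr).ev_eq, a3 r hr]

theorem exists_F {h : G} (LH : Loc usH H (g.l h)) :
    ∃ F : cl ms →* G, Function.Injective F ∧ ∀ w, F (el ms w) = ev (g.l h) w := by
  have tr : ∀ w w', (Ov usM w ∧ Ov usM w' ∨ Ov usH w ∧ Ov usH w') → ev ms w = ev ms w' →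
      ev (g.l h) w = ev (g.l h) w' := fun w w' o => o.elim (fun o => ((S.L h).tr o.1 o.2).mp) fun o => (LH.tr o.1 o.2).mp
  have ov : ∀ u : List ℕ, (∀ b ∈ u, b ∈ gA) → Ov usM u ∧ Ov usH u := fun u hu => ⟨fun b hb =>
    (by decide : ∀ b ∈ gA, usM.getD b [] = [b]) b (hu b hb), fun b hb =>
    (by decide : ∀ b ∈ gA, usH.getD b [] = [b]) b (hu b hb)⟩
  have h1 : ∀ w : List ℕ, (∀ a ∈ w, a ∈ [13, 11, 12, 14, 16]) → ∀ u : List ℕ, (∀ b ∈ u, b ∈ gA) →
      (ev ms w * ev ms u = ev ms u * ev ms w ↔ ev (g.l h) w * ev (g.l h) u = ev (g.l h) u * ev (g.l h) w) :=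
    fun w hw u hu => track_comm (fun a ha j hj => by
      obtain ⟨u, hu, e⟩ := nA_chk a ha j hj
      have o1 := ov [j] (by simpa using hj)
      have o2 := ov u (ov_chk.2.2.2.2.2.1 u hu)
      exact ⟨u, ov_chk.2.2.2.2.2.1 u hu, e, tr _ _ (((by decide : ∀ a ∈ [13, 11, 12, 14, 16], Ov usM [a] ∨ Ov usH [a])
        a ha).imp (fun o => ⟨o.append o1.1, o2.1.append o⟩) fun o => ⟨o.append o1.2, o2.2.append o⟩) e⟩)
      (fun u u' hu hu' => LH.tr (ov u hu).2 (ov u' hu').2) hw hu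
  have h2 : ∀ w ∈ [[13, 11], [12, 13, 12, 13, 14, 16]], ev (g.l h) (w ++ w ++ w ++ w ++ w) = 1 := fun w hw => by
    obtain ⟨b1, b2, b3⟩ := (by decide : ∀ w ∈ [[13, 11], [12, 13, 12, 13, 14, 16]], (∀ a ∈ w, a ∈ [13, 11, 12, 14, 16]) ∧
      (∀ a ∈ w ++ w ++ w ++ w ++ w, a ∈ [13, 11, 12, 14, 16]) ∧ w ++ w ++ w ++ w ++ w ∈ relsG ++ relsE) w hw
    have b4 : ∀ j ∈ gA, ev (g.l h) (w ++ w ++ w ++ w ++ w) * ev (g.l h) [j] =
        ev (g.l h) [j] * ev (g.l h) (w ++ w ++ w ++ w ++ w) := fun j hj =>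
      (h1 _ b2 [j] (by simpa using hj)).mp (by rw [relsG_ms _ b3, one_mul, mul_one])
    obtain ⟨z, o, e, hm⟩ := LH.cover (ev (g.l h) (w ++ w ++ w ++ w ++ w)) ((S.memH _).mpr (by
      simpa only [show ev (g.l h) [5] = g.t from ev_one _ _] using b4 5 (by decide)))
    rw [← e] at b4
    obtain ⟨u, hu, e'⟩ := (passH (msH_eq ▸ hm)).1 (LH.cm o (by decide) (b4 6 (by decide)))
      (LH.cm o (by decide) (b4 7 (by decide))) (LH.cm o (by decide) (b4 10 (by decide)))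
    have b5 := ov_chk.2.2.2.2.2.1 u hu
    have b6 := (LH.tr o (ov u b5).2).mp e'
    rw [← e, b6, e_chk w hw u hu ((h1 w b1 u b5).mpr (by rw [← b6, e]; simp only [ev_append, mul_assoc])), ev_nil]
  obtain ⟨F, hF⟩ := exists_hom_words3 (ms := ms) (gs := g.l h) (by unfold ms; rfl) presG (by rw [hs_iso.2]) relsG_ms
    (List.forall_mem_append.mpr ⟨fun r hr => tr r [] ((ov_chk.2.2.2.2.2.2.2.2.2.1 r hr).imp
      (fun o => ⟨o, by decide⟩) fun o => ⟨o, by decide⟩) (relsG_ms r (List.mem_append_left _ hr)), by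
        simpa [relsE] using h2⟩) fun k hk => by
      have b1 : k * g.t = g.t * k := by simpa [ev, Gn.l, Gn.t] using hk [14]
      have b2 : k * g.x = g.x * k := by
        have := hk [2, 2, 2, 2]
        rw [← ev_append, (S.L h).eq _ [2]] at this
        simpa [ev, Gn.l] using this
      have b3 : k * g.y = g.y * k := by
        have := hk [0, 0]
        rw [← ev_append, (S.L h).eq _ [0]] at this
        simpa [ev, Gn.l] using this
      have b4 : Commute k g.v := (Commute.mul_right b2 b1).mul_right (Commute.inv_right b2)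
      have b5 : Commute k g.w := (Commute.mul_right b3 b4).mul_right (Commute.inv_right b3)
      exact (S.L h).m3 (S.normV (by rw [b1, mul_inv_cancel_right]; exact S.tV)
        (by rw [b4.eq, mul_inv_cancel_right]; exact S.vV) (by rw [b5.eq, mul_inv_cancel_right]; exact S.wV')) b2 b1
  exact ⟨F, (MonoidHom.ker_eq_bot_iff F).mp (ker_triv (card_ker_dvd F (H := H) (fun a ha => by
    obtain ⟨w, -, rfl, -⟩ := LH.cover a ha
    exact ⟨_, hF w⟩) S.cardH hs_iso.2 (by decide))), hF⟩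

end St

end Cfsg.Agent.HSR
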