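import Cfsg.Agent.HSR.Loc

/-! Identification of the normal subgroup and the extra generator. -/

set_option autoImplicit false
set_option linter.unusedSectionVars false
set_option maxRecDepth 100000

namespace Cfsg.Agent.HSR

open Subgroup MulAction Cfsg.Agent.Mat Cfsg.Agent.Local

attribute [local irreducible] cmul cinv pack ms msM msH msB m1 xs ps

variable {G : Type*} [Group G] [Finite G]

theorem cm_conj (g a b : G) : g * a * g⁻¹ * (g * b * g⁻¹) = g * b * g⁻¹ * (g * a * g⁻¹) ↔ a * b = b * a := by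
  rw [conj_mul, conj_mul, mul_left_inj, mul_right_inj]

namespace Hyp

variable {t c0 : G} {H R V M : Subgroup G} {ρ : H →* Equiv.Perm (Fin 5)} (h : Hyp t c0 H R V M ρ)
include h

theorem cm_mul {a a' b : G} (ha : a ∈ R) (ha' : a' ∈ R) (hb : b ∈ R) :
    a * a' * b = b * (a * a') ↔ (a * b = b * a ↔ a' * b = b * a') := by
  have h1 : ∀ a ∈ R, ∃ z, (z = 1 ∨ z = t) ∧ a * b = b * a * z := fun a ha =>
    (h.comm a ha b hb).elim (fun e => ⟨1, .inl rfl, by rwa [mul_one]⟩) fun e => ⟨t, .inr rfl, e⟩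
  obtain ⟨z, hz, e⟩ := h1 a ha
  obtain ⟨z', hz', e'⟩ := h1 a' ha'
  have h2 : a' * z = z * a' := by
    rcases hz with rfl | rfl
    exacts [by simp, (h.memH _).mp (h.RH ha')]
  rw [show a * a' * b = b * (a * a') * (z * z') by
    rw [mul_assoc, e', ← mul_assoc, ← mul_assoc, e, mul_assoc _ z, ← h2]; simp only [mul_assoc], e, e',
    mul_eq_left, mul_eq_left, mul_eq_left]
  rcases hz with rfl | rfl <;> rcases hz' with rfl | rfl <;> simp [h.ne, h.tt]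

theorem q_triv {y s : G} (hy : y ∈ H) (hs : s ∈ H) (ss : s * s = 1) (hc : y⁻¹ * s * y * s⁻¹ ∈ R)
    (tr : ∀ a ∈ R, ∀ b ∈ R, a * (y * a * y⁻¹) * (y * (y * a * y⁻¹) * y⁻¹) * b =
      b * (a * (y * a * y⁻¹) * (y * (y * a * y⁻¹) * y⁻¹))) {a : G} (ha : a ∈ R) :
    a * (s * a * s⁻¹) = s * a * s⁻¹ * a := by
  have h1 : ∀ a ∈ R, ∀ b ∈ R, (a * b * (s * (a * b) * s⁻¹) = s * (a * b) * s⁻¹ * (a * b) ↔
      (a * (s * a * s⁻¹) = s * a * s⁻¹ * a ↔ b * (s * b * s⁻¹) = s * b * s⁻¹ * b)) := fun a ha b hb => by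
    have sa := h.norm s hs a ha
    have sb := h.norm s hs b hb
    have e1 := cm_conj s (s * b * s⁻¹) a
    rw [show s * (s * b * s⁻¹) * s⁻¹ = (s * s) * b * (s * s)⁻¹ by group, ss, one_mul, inv_one, mul_one] at e1
    rw [← conj_mul, h.cm_mul ha hb (mul_mem sa sb), @eq_comm _ (a * _), @eq_comm _ (b * (_ * _ * _ * _)),
      h.cm_mul sa sb ha, h.cm_mul sa sb hb, ← e1, @eq_comm _ (a * _), @eq_comm _ (b * (s * b * s⁻¹)),
      @eq_comm _ (b * (s * a * s⁻¹))]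
    tauto
  have h2 : ∀ a ∈ R, (y * a * y⁻¹ * (s * (y * a * y⁻¹) * s⁻¹) = s * (y * a * y⁻¹) * s⁻¹ * (y * a * y⁻¹) ↔
      a * (s * a * s⁻¹) = s * a * s⁻¹ * a) := fun a ha => by
    have sa := h.norm s hs a ha
    rw [show s * (y * a * y⁻¹) * s⁻¹ = y * ((y⁻¹ * s * y * s⁻¹) * (s * a * s⁻¹) * (y⁻¹ * s * y * s⁻¹)⁻¹) * y⁻¹ by group,
      cm_conj]
    generalize y⁻¹ * s * y * s⁻¹ = n at hc
    generalize s * a * s⁻¹ = b at sa
    rcases h.comm n hc b sa with e | e <;> rw [e]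
    · rw [mul_inv_cancel_right]
    · rw [mul_assoc b, (h.memH n).mp (h.RH hc), ← mul_assoc b, mul_inv_cancel_right, mul_assoc,
        ← (h.memH a).mp (h.RH ha), ← mul_assoc, ← mul_assoc, mul_left_inj]
  have ya := h.norm y hy a ha
  have yya := h.norm y hy _ ya
  have h3 := (h1 _ (mul_mem ha ya) _ yya).mp (tr a ha _ (h.norm s hs _ (mul_mem (mul_mem ha ya) yya)))
  rw [h1 a ha _ ya, h2 _ ya, h2 a ha] at h3
  tauto

end Hyp

namespace St

variable {g : Gn G} {H R V M : Subgroup G} {ρ : H →* Equiv.Perm (Fin 5)} (S : St g H R V M ρ)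
include S

theorem L (h : G) : Loc usM M (g.l h) := (locM S.gen S.cardM S.rels h).2.2

theorem yc : g.y * g.c = g.c * g.y := by simpa [ev, Gn.l] using (S.L 1).eq [0, 14] [14, 0]

theorem y3 : g.y * g.y * g.y = 1 := by simpa [ev, Gn.l, mul_assoc] using (S.L 1).eq [0, 0, 0] []

theorem ss : g.s * g.s = 1 := by simpa [ev, Gn.l] using (S.L 1).eq [4, 4] []

theorem sc : g.s * g.c * g.s⁻¹ = g.c⁻¹ := mul_inv_eq_iff_eq_mul.mpr (by
  simpa [ev, Gn.l] using (S.L 1).eq [4, 14] [15, 4])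

theorem mH {k : G} (e : k * g.c = g.c * k) : k ∈ H := (S.memH _).mpr (Commute.mul_right e e).eq

theorem mH' {k : G} (e : k * g.c * k⁻¹ = g.c⁻¹) : k ∈ H := (S.memH _).mpr (mul_inv_eq_iff_eq_mul.mp (by
  rw [Gn.t, ← conj_mul, e, ← mul_inv_rev]; exact S.ti))

theorem nV {k a : G} (hk : k ∈ M) (ha : a ∈ V) : k * a * k⁻¹ ∈ V :=
  (mem_normalizer_iff.mp (S.hM ▸ hk) a).mp ha

theorem yM : g.y ∈ M := by simpa [ev, Gn.l] using (S.L 1).mem (w := [0]) (by decide)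

theorem vV : g.v ∈ V := S.nV (by simpa [ev, Gn.l] using (S.L 1).mem (w := [2]) (by decide)) S.tV

theorem wV' : g.w ∈ V := S.nV S.yM S.vV

theorem normV {k : G} (h1 : k * g.t * k⁻¹ ∈ V) (h2 : k * g.v * k⁻¹ ∈ V) (h3 : k * g.w * k⁻¹ ∈ V) : k ∈ M := by
  have ov : ∀ u ∈ wV, Ov usM u := by decide
  refine S.hM ▸ mem_normalizer_fintype fun a ha => ?_
  obtain ⟨u, hu, rfl⟩ := List.mem_map.mp (mem_list_of_nodup (l := wV.map (ev (g.l 1))) (fun b hb => by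
    obtain ⟨u, hu, rfl⟩ := List.mem_map.mp hb
    simpa using mem_words (z := 1) (K := V) (gs := g.l 1) (by simpa [ev, Gn.l] using ⟨S.tV, S.vV, S.wV'⟩)
      (ov_chk.2.2.2.2.2.2.1 u hu))
    (ov_chk.2.2.2.2.2.2.2.2.2.2.2.map_on fun u hu u' hu' e => v_chk u hu u' hu'
      (((S.L 1).tr (ov u hu) (ov u' hu')).mpr e)) S.cardV.le a ha)
  exact mem_words (by simpa [ev, Gn.l] using ⟨h1, h2, h3⟩) (ov_chk.2.2.2.2.2.2.1 u hu)

theorem notM {k : G} (h1 : k * g.y = g.y * k) (h2 : k * g.c * k⁻¹ = g.c⁻¹) (h3 : k * k = 1 ∨ k * k = g.t) : k ∉ M :=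
  fun hk => S.ni (h2.symm.trans (mul_inv_eq_iff_eq_mul.mpr (by
    rcases (S.L 1).m1 hk h1 (by rw [mul_assoc]; rcases h3 with e | e <;> simp [e, S.tt]) with e | e | e | e <;>
      simp [e, Gn.t, mul_assoc])))

theorem yR : g.y ∉ R := fun h => absurd (by simpa [ev, Gn.l, S.y3] using S.four h) ((S.L 1).ne [0] [])

theorem exists_s : ∃ k ∈ H, k * g.s * k⁻¹ * g.y * (k * g.s * k⁻¹)⁻¹ * g.y⁻¹ ∈ R ∧
    g.y⁻¹ * (k * g.s * k⁻¹) * g.y * (k * g.s * k⁻¹)⁻¹ ∈ R := by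
  have yH := S.mH S.yc
  have sH := S.mH' S.sc
  rcases perm_chk (ρ ⟨_, yH⟩) (by rw [← map_mul, ← map_mul, ← map_one ρ]; exact congrArg ρ (Subtype.ext S.y3))
    (fun e => S.yR ((S.ker _).mp e)) (ρ ⟨_, sH⟩)
    (by rw [← map_mul, ← map_one ρ]; exact congrArg ρ (Subtype.ext S.ss)) with ⟨γ, e⟩ | ⟨γ, e⟩ <;>
    obtain ⟨k, rfl⟩ := S.surj γ
  · have h1 : Commute g.c (g.s * (k.1 * k.1)⁻¹) :=
      S.c0c _ ((S.ker (⟨_, sH⟩ * (k * k)⁻¹)).mp (by rw [map_mul, map_inv, map_mul, e, mul_inv_cancel]))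
    have h2 := h1.mul_right (Commute.symm (S.sq_cent k.2))
    rw [inv_mul_cancel_right] at h2
    exact absurd (S.sc.symm.trans (mul_inv_eq_iff_eq_mul.mpr h2.eq.symm)) S.ni
  · exact ⟨k, k.2, (S.ker (k * ⟨_, sH⟩ * k⁻¹ * ⟨_, yH⟩ * (k * ⟨_, sH⟩ * k⁻¹)⁻¹ * ⟨_, yH⟩⁻¹)).mp (by
      simp only [map_mul, map_inv]; rw [e]; group),
      (S.ker (⟨_, yH⟩⁻¹ * (k * ⟨_, sH⟩ * k⁻¹) * ⟨_, yH⟩ * (k * ⟨_, sH⟩ * k⁻¹)⁻¹)).mp (by
      simp only [map_mul, map_inv]; rw [mul_assoc _ _ (ρ ⟨_, yH⟩), e]; group)⟩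

theorem R_sub (h : G) {a : G} (ha : a ∈ R) : ∃ u ∈ wS0, ev (g.l h) u = a := by
  have yH := S.mH S.yc
  have sH := S.mH' S.sc
  have ov := ov_chk.2.2.2.1
  have h1 : ∀ a ∈ R, ∃ u ∈ wS0 ++ wS1, ev (g.l h) u = a := fun a ha =>
    (S.L h).m2 (S.RM ha) (S.c0c a ha).symm (S.sq a ha)
  obtain ⟨k, hk, -, h2⟩ := S.exists_s
  have o0 : Ov usM [0] := by decide
  have o1 : Ov usM [1] := by decide
  have o4 : Ov usM [4] := by decide
  have h3 : ∀ b ∈ R, b * g.s * (b * g.s) = g.s * b * (g.s * b) := fun b hb => by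
    have := S.q_triv yH (mul_mem (mul_mem hk sH) (inv_mem hk)) (CIT.conj_sq S.ss) h2 (fun a ha b hb => by
      obtain ⟨u, hu, rfl⟩ := h1 a ha
      obtain ⟨z, hz, e⟩ := tr_chk u hu
      have o := (ov u hu).append o0
      have e1 := ((S.L h).tr ((o.append o).append o) (ov_chk.2.2.1 z hz)).mp e
      simp only [ev_append] at e1
      generalize ev (g.l h) u = a at *
      rw [show a * (g.y * a * g.y⁻¹) * (g.y * (g.y * a * g.y⁻¹) * g.y⁻¹) =
        a * g.y * (a * g.y) * (a * g.y) * (g.y * g.y * g.y)⁻¹ by group, S.y3, inv_one, mul_one]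
      have e2 : ev (g.l h) [0] = g.y := ev_one _ _
      rw [← e2, e1]
      have c1 : Commute g.c b := S.c0c b hb
      clear e e1
      revert z
      simpa [wC, ev, Gn.l, Gn.t] using ⟨c1.eq, (c1.mul_left c1).eq, c1.inv_left.eq⟩) (S.norm k hk b hb)
    rw [show k * g.s * k⁻¹ * (k * b * k⁻¹) * (k * g.s * k⁻¹)⁻¹ = k * (g.s * b * g.s⁻¹) * k⁻¹ by group, cm_conj,
      inv_eq_of_mul_eq_one_right S.ss] at this
    simpa only [mul_assoc] using this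
  obtain ⟨u, hu, rfl⟩ := h1 a ha
  refine (List.mem_append.mp hu).elim (fun e => ⟨u, e, rfl⟩) fun e => (s1_chk u e).elim (fun e1 => absurd ?_ e1)
    fun e1 => absurd ?_ e1
  · have o := ov u hu
    refine ((S.L h).tr ((o.append o4).append (o.append o4)) ((o4.append o).append (o4.append o))).mpr ?_
    simp only [ev_append]
    generalize ev (g.l h) u = a at *
    simpa [ev, Gn.l] using h3 a ha
  · have o := (o0.append (ov u hu)).append o1
    refine ((S.L h).tr ((o.append o4).append (o.append o4)) ((o4.append o).append (o4.append o))).mpr ?_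
    simp only [ev_append]
    generalize ev (g.l h) u = a at *
    simpa [ev, Gn.l] using h3 _ (S.norm _ yH a ha)

theorem exists_h0 : ∃ h, h * g.y = g.y * h ∧ h * g.c * h⁻¹ = g.c⁻¹ ∧ (h * h = 1 ∨ h * h = g.t) ∧
    (h * g.v * h⁻¹ = g.r ∨ h * g.v * h⁻¹ = g.c * g.c * g.v * g.r) := by
  have yH := S.mH S.yc
  have sH := S.mH' S.sc
  obtain ⟨k, hk, h1, -⟩ := S.exists_s
  have h2 : k * g.s * k⁻¹ * g.c * (k * g.s * k⁻¹)⁻¹ = g.c⁻¹ := by
    calc _ = k * (g.s * (k⁻¹ * g.c * k⁻¹⁻¹) * g.s⁻¹) * k⁻¹ := by group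
      _ = k * (k⁻¹ * g.c * k⁻¹⁻¹)⁻¹ * k⁻¹ := by
        rcases S.cc (inv_mem hk) with e | e <;> rw [e]
        exacts [by rw [S.sc], by rw [← conj_inv, S.sc]]
      _ = _ := by group
  have h3 := CIT.conj_sq (g := k) S.ss
  generalize k * g.s * k⁻¹ = s at h1 h2 h3
  have y3 : g.y ^ 3 = 1 := (pow_three' _).trans S.y3
  obtain ⟨n, hn, e⟩ := conj_of_coprime (N := R) Nat.prime_three (by rw [S.cardR]; decide) (S.norm _ yH) h1 y3
    (by rw [conj_pow, y3]; simp)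
  have a1 : n⁻¹ * s * g.y = g.y * (n⁻¹ * s) := by
    calc _ = n⁻¹ * (s * g.y * s⁻¹) * s := by group
      _ = _ := by rw [← e]; group
  have a2 : n⁻¹ * s * g.c * (n⁻¹ * s)⁻¹ = g.c⁻¹ := by
    calc _ = n⁻¹ * (s * g.c * s⁻¹) * n := by group
      _ = _ := by rw [h2, mul_assoc, (Commute.inv_left (S.c0c n hn)).eq, inv_mul_cancel_left]
  have a3 : n⁻¹ * s * (n⁻¹ * s) ∈ R := by
    have := mul_mem (inv_mem hn) (S.norm s (S.mH' h2) _ (inv_mem hn))
    rwa [inv_eq_of_mul_eq_one_right h3, ← mul_assoc, ← mul_assoc, mul_assoc _ n⁻¹] at this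
  generalize n⁻¹ * s = h at a1 a2 a3
  have a4 : h * h = 1 ∨ h * h = g.t := by
    have a5 : h * (h * h) * h⁻¹ = h * h := by group
    rcases (S.L 1).m1 (S.RM a3) (Commute.mul_left a1 a1).eq (S.four a3) with e | e | e | e
    exacts [.inl e, absurd (by rwa [e, a2] at a5) S.ni, .inr e,
      absurd (by rw [e, ← conj_inv, a2, inv_inv] at a5; exact a5.symm) S.ni]
  refine ⟨h, a1, a2, a4, ?_⟩
  have hH := S.mH' a2
  have a5 := S.norm h hH _ (S.VR S.vV)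
  have a6 : h * (h * g.v * h⁻¹) * h⁻¹ = g.v := by
    rw [show h * (h * g.v * h⁻¹) * h⁻¹ = h * h * g.v * (h * h)⁻¹ by group]
    rcases a4 with e | e <;> rw [e]
    exacts [by simp, by rw [← (S.memH _).mp (S.RH (S.VR S.vV)), mul_inv_cancel_right]]
  have a7 : ∀ a, h * (g.y * a * g.y⁻¹) * h⁻¹ = g.y * (h * a * h⁻¹) * g.y⁻¹ := fun a => by
    calc _ = h * g.y * a * (h * g.y)⁻¹ := by group
      _ = _ := by rw [a1]; group
  obtain ⟨u, hu, e1⟩ := S.R_sub 1 a5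
  have o := ov_chk.2.2.2.1 u (List.mem_append_left _ hu)
  have o0 : Ov usM [0] := by decide
  have o1 : Ov usM [1] := by decide
  have o6 : Ov usM [6] := by decide
  have o8 : Ov usM [8] := by decide
  rcases a_chk u hu (((S.L 1).tr (o.append o) (by decide)).mpr (by
      rw [ev_append, e1]; exact CIT.conj_sq (by simpa [ev, Gn.l] using (S.L 1).eq [6, 6] [])))
    (((S.L 1).tr (((o.append o0).append (o.append o0)).append (o.append o0)) (by decide)).mpr (by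
      have b1 : g.v * g.y * (g.v * g.y) * (g.v * g.y) = 1 := by
        simpa [ev, Gn.l, mul_assoc] using (S.L 1).eq [6, 0, 6, 0, 6, 0] []
      have b2 : h * g.v * h⁻¹ * ev (g.l 1) [0] = h * (g.v * g.y) * h⁻¹ := by
        rw [← conj_mul, mul_inv_eq_iff_eq_mul.mpr a1]; exact congrArg _ (ev_one _ _)
      simp only [ev_append, e1, b2, conj_mul, b1, ev_nil, mul_one, mul_inv_cancel]))
    (by
      rw [(S.L 1).tr (o6.append ((o0.append o).append o1)) (((o0.append o).append o1).append o6),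
        (S.L 1).tr (o.append o8) (o8.append o)]
      simp only [ev_append, e1]
      simp only [ev_one, Gn.l, List.getD_cons_succ, List.getD_cons_zero]
      rw [← cm_conj h, a7, a6, Gn.w]) with e2 | rfl | rfl
  · have a8 : h * g.v * h⁻¹ ∈ V := by
      rw [← e1]
      clear e1 o hu
      revert u
      simpa [ev, Gn.l] using ⟨S.vV, S.wV', mul_mem S.vV S.wV'⟩
    exact absurd (S.normV (by rw [(S.memH _).mp hH, mul_inv_cancel_right]; exact S.tV) a8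
      (by rw [Gn.w, a7]; exact S.nV S.yM a8)) (S.notM a1 a2 a4)
  · exact .inl (by simpa [ev, Gn.l] using e1.symm)
  · exact .inr (by simpa [ev, Gn.l, mul_assoc] using e1.symm)

theorem swap : St ⟨g.c, g.x, g.y, g.s * g.t⟩ H R V M ρ := by
  have h1 : usT.map (ev g.bl) = Gn.bl ⟨g.c, g.x, g.y, g.s * g.t⟩ := by
    simp [usT, ev, Gn.bl, Gn.t, Gn.d, Gn.e, mul_assoc]
  refine ⟨S.toHyp, eq_of_le_of_card_ge ?_ ?_, fun r hr => h1 ▸
    ((locM S.gen S.cardM S.rels 1).1.map usT).one.mp (usT_chk r hr)⟩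
  · rw [← h1, ← S.gen]
    exact cl_le fun x hx => by obtain ⟨w, -, rfl⟩ := List.mem_map.mp hx; exact ev_mem_cl _ _
  · refine card_le_of_le (S.gen ▸ cl_le fun x hx => ?_)
    have h2 : ∀ w, ev (Gn.bl ⟨g.c, g.x, g.y, g.s * g.t⟩) w ∈ cl (Gn.bl ⟨g.c, g.x, g.y, g.s * g.t⟩) := ev_mem_cl _
    have h3 : g.bl = [[0], [1], [2], [3], [4], [5], [6], [7], [8], [9], [10, 5, 5], [4, 4, 11]].map
        (ev (Gn.bl ⟨g.c, g.x, g.y, g.s * g.t⟩)) := by simp [ev, Gn.bl, Gn.t, Gn.d, Gn.e, mul_assoc]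
    obtain ⟨w, -, rfl⟩ := List.mem_map.mp (h3 ▸ hx)
    exact h2 w

theorem exists_h1 : ∃ g' : Gn G, g'.t = g.t ∧ St g' H R V M ρ ∧ ∃ h, h * g'.y = g'.y * h ∧
    h * g'.c * h⁻¹ = g'.c⁻¹ ∧ (h * h = 1 ∨ h * h = g'.t) ∧ h * g'.v * h⁻¹ = g'.r := by
  obtain ⟨h, h1, h2, h3, e | e⟩ := S.exists_h0
  · exact ⟨g, rfl, S, h, h1, h2, h3, e⟩
  · exact ⟨⟨g.c, g.x, g.y, g.s * g.t⟩, rfl, S.swap, h, h1, h2, h3, e.trans (by
      simpa [ev, Gn.l, Gn.r, mul_assoc] using (S.L 1).eq [14, 14, 6, 7] [2, 0, 2, 4, 5, 2, 0])⟩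

end St

end Cfsg.Agent.HSR
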