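import Cfsg.Agent.Mat.Model
import Cfsg.Agent.M12C.Gen2

/-! Tools: enumeration along a stabilizer chain, transfer of relations, lifting lemmas. -/

set_option autoImplicit false
set_option linter.unusedSectionVars false

namespace Cfsg.Agent.HSR

open Subgroup MulAction Cfsg.Agent.Mat Cfsg.Agent.Local

/-- Evaluate a number before using it. -/
def force (a : ℕ) (k : ℕ → Bool) : Bool := @Nat.rec (fun _ => Bool) (k 0) (fun p _ => k (Nat.succ p)) a

theorem force_eq (a : ℕ) (k : ℕ → Bool) : force a k = k a := by cases a <;> rfl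

/-- A test on all products of transversal elements. -/
def allP (n : ℕ) (f : ℕ → Bool) (L : List (ℕ × List ℕ)) : ℕ → Bool :=
  @List.rec (ℕ × List ℕ) (fun _ => ℕ → Bool) f (fun p _ ih a => allL (fun c => force (cmul n a c) ih) p.2) L

/-- Image of a point under a product of codes. -/
def appL (u : List ℕ) (i : ℕ) : ℕ := @List.rec ℕ (fun _ => ℕ) i (fun c _ ih => lk c ih) u

/-- Lazy comparison of two products. -/
def lz (n : ℕ) (u v : List ℕ) : Bool := allN (fun i => Nat.beq (appL u i) (appL v i)) n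

/-- Some point is fixed. -/
def fx (n c : ℕ) : Bool := !allN (fun i => !Nat.beq (lk c i) i) n

theorem allN_of {f : ℕ → Bool} {n : ℕ} (h : ∀ i < n, f i = true) : allN f n = true := by
  induction n with
  | zero => rfl
  | succ n ih =>
    show @Bool.rec (fun _ => Bool) false (allN f n) (f n) = true
    rw [h n (by omega)]
    exact ih fun i hi => h i (by omega)

section

variable {n : ℕ} [hn : Fact (n ≤ 256)]

theorem appL_eq (u : List (CP n)) (i : Fin n) : appL (u.map Subtype.val) i = (u.prod • i).1 := by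
  induction u with
  | nil => rw [List.prod_nil, one_smul]; rfl
  | cons a u ih =>
    rw [List.prod_cons, mul_smul, CP.smul_val, ← ih]
    rfl

theorem lz_of_eq (u v : List (CP n)) (h : u.prod = v.prod) :
    lz n (u.map Subtype.val) (v.map Subtype.val) = true :=
  allN_of fun i hi => by rw [appL_eq u ⟨i, hi⟩, appL_eq v ⟨i, hi⟩, h, Nat.beq_refl]

theorem eq_of_lz (u v : List (CP n)) (h : lz n (u.map Subtype.val) (v.map Subtype.val) = true) :
    u.prod = v.prod :=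
  eq_of_smul_eq_smul (α := Fin n) fun i => Fin.ext (by
    rw [← appL_eq, ← appL_eq]; exact Nat.eq_of_beq_eq_true (allN_spec h i i.2))

theorem fx_iff (a : CP n) : fx n a.1 = true ↔ ∃ i : Fin n, a • i = i := by
  rw [fx, Bool.not_eq_true', ← Bool.not_eq_true]
  constructor
  · intro h
    by_contra h1
    refine h (allN_of fun i hi => ?_)
    rw [Bool.not_eq_true', ← Bool.not_eq_true, Nat.beq_eq]
    exact fun e => h1 ⟨⟨i, hi⟩, Fin.ext ((CP.smul_val _ _).trans e)⟩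
  · rintro ⟨i, hi⟩ h
    have := allN_spec h i i.2
    rw [← CP.smul_val, hi, Nat.beq_refl] at this
    cases this

theorem allP_spec {f : ℕ → Bool} {L : List (ℕ × List ℕ)} {P : ℕ → Bool} {H : Subgroup (CP n)}
    (hP : ∀ x : CP n, P x.1 = true → x ∈ H) (h : lowChk n L P = true)
    (hc : Nat.card H ≤ (L.map fun p => p.2.length).prod) (a : CP n) (ha : allP n f L a.1 = true) :
    ∀ x ∈ H, f (a * x).1 = true := by
  induction L generalizing P H a with
  | nil =>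
    intro x hx
    rw [(eq_bot_iff_forall H).mp (eq_bot_of_card_le H hc) x hx, mul_one]
    exact ha
  | cons p L ih =>
    have h1 : (Nat.blt p.1 n && allL (fun c => valid n c && P c) p.2 && ndM (p.2.map (lk · p.1)) 0 &&
      lowChk n L fun c => P c && Nat.beq (lk c p.1) p.1) = true := h
    simp only [Bool.and_eq_true, Nat.blt_eq, allL_iff] at h1
    obtain ⟨⟨⟨h2, h3⟩, h4⟩, h5⟩ := h1
    have hP' : ∀ x : CP n, (P x.1 && Nat.beq (lk x.1 p.1) p.1) = true →
        x ∈ H ⊓ stabilizer (CP n) (⟨p.1, h2⟩ : Fin n) := fun x hx => by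
      rw [Bool.and_eq_true, Nat.beq_eq] at hx
      exact mem_inf.mpr ⟨hP x hx.1, Fin.ext ((CP.smul_val _ _).trans hx.2)⟩
    have h6 := lowChk_le hP' h5
    have h7 := Pres.card_inf_stabilizer_mul H (⟨p.1, h2⟩ : Fin n)
    have h8 : ((p.2.map (lk · p.1)).toFinset : Set ℕ) ⊆ Fin.val '' {b | ∃ h ∈ H, h • (⟨p.1, h2⟩ : Fin n) = b} :=
      fun a ha => by
        obtain ⟨c, hc, rfl⟩ := List.mem_map.mp (List.mem_toFinset.mp ha)
        exact ⟨_, ⟨⟨c, valid_spec (h3 c hc).1⟩, hP _ (h3 c hc).2, rfl⟩, CP.smul_val _ _⟩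
    have h9 := Set.ncard_le_ncard h8
    have h10 : (((p.2.map (lk · p.1)).toFinset : Set ℕ)).ncard = p.2.length := by
      rw [Set.ncard_coe_finset, List.toFinset_card_of_nodup (ndM_spec h4).1, List.length_map]
    rw [List.map_cons, List.prod_cons] at hc
    rw [← Set.ncard_image_of_injective _ Fin.val_injective] at h7
    rw [h10] at h9
    have h11 : 0 < Nat.card ↥(H ⊓ stabilizer (CP n) (⟨p.1, h2⟩ : Fin n)) := Nat.card_pos
    have h12 : 0 < p.2.length := Nat.pos_of_mul_pos_right (Nat.card_pos.trans_le hc) 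
    intro x hx
    have h13 := Set.eq_of_subset_of_ncard_le h8 (by rw [h10]; nlinarith)
    obtain ⟨c, hc', e⟩ := List.mem_map.mp (List.mem_toFinset.mp (h13.ge ⟨_, ⟨x, hx, rfl⟩, rfl⟩))
    let t : CP n := ⟨c, valid_spec (h3 c hc').1⟩
    have h14 := ih hP' h5 (by nlinarith) (a * t) ((force_eq _ _).symm.trans (allL_iff.mp ha c hc')) (t⁻¹ * x)
      (mem_inf.mpr ⟨mul_mem (inv_mem (hP _ (h3 c hc').2)) hx, by
        rw [mem_stabilizer_iff, mul_smul, inv_smul_eq_iff]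
        exact Fin.ext (e.symm.trans (CP.smul_val t ⟨p.1, h2⟩).symm)⟩)
    rwa [mul_assoc, mul_inv_cancel_left] at h14

/-- The check that codes are values of words. -/
def wdChk (ms : List (CP n)) (cs : List ℕ) (W : List (List ℕ)) : Bool := decide (cs = W.map fun w => (ev ms w).1)

theorem wdChk_spec {ms : List (CP n)} {cs : List ℕ} {W : List (List ℕ)} (h : wdChk ms cs W = true) {x : CP n}
    (hx : memN x.1 cs = true) : ∃ w ∈ W, x = ev ms w := by
  rw [memN_iff, of_decide_eq_true h] at hx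
  obtain ⟨w, hw, e⟩ := List.mem_map.mp hx
  exact ⟨w, hw, Subtype.ext e.symm⟩

/-- The check of a stabilizer chain given by words. -/
def chChk (ms : List (CP n)) (L : List (ℕ × List ℕ)) (W : List (List ℕ)) : Bool :=
  wdChk ms (L.flatMap Prod.snd) W && lowChk n L (memN · (L.flatMap Prod.snd))

theorem chChk_le {ms : List (CP n)} {L : List (ℕ × List ℕ)} {W : List (List ℕ)} (h : chChk ms L W = true) :
    (L.map fun p => p.2.length).prod ≤ Nat.card (cl ms) := by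
  rw [chChk, Bool.and_eq_true] at h
  exact lowChk_le (fun x hx => by obtain ⟨w, -, rfl⟩ := wdChk_spec h.1 hx; exact ev_mem_cl _ _) h.2

theorem chChk_all {ms : List (CP n)} {L : List (ℕ × List ℕ)} {W : List (List ℕ)} (h : chChk ms L W = true)
    (hc : Nat.card (cl ms) ≤ (L.map fun p => p.2.length).prod) {f : ℕ → Bool}
    (ha : allP n f L (pack id n) = true) (w : List ℕ) : f (ev ms w).1 = true := by
  rw [chChk, Bool.and_eq_true] at h
  simpa using allP_spec (fun x hx => by obtain ⟨w, -, rfl⟩ := wdChk_spec h.1 hx; exact ev_mem_cl _ _) h.2 hc 1 ha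
    _ (ev_mem_cl ms w)

end

variable {X G : Type*} [Group X] [Group G]

/-- The same relations hold. -/
def Tr (ms : List X) (gs : List G) : Prop := ∀ w w', ev ms w = ev ms w' ↔ ev gs w = ev gs w'

theorem Tr.of_hom {ms : List X} {gs : List G} {f : cl ms →* G} (hf : Function.Injective f)
    (h : ∀ w, f (el ms w) = ev gs w) : Tr ms gs := fun w w' => by
  rw [← h, ← h, hf.eq_iff, Subtype.ext_iff]; rfl

theorem ev_map_ev (gs : List G) (us : List (List ℕ)) (w : List ℕ) :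
    ev (us.map (ev gs)) w = ev gs (w.flatMap (us.getD · [])) := by
  induction w with
  | nil => rfl
  | cons a w ih => rw [ev, List.flatMap_cons, ev_append, ih, ← List.getD_map (f := ev gs)]; rfl

theorem Tr.map {ms : List X} {gs : List G} (h : Tr ms gs) (us : List (List ℕ)) :
    Tr (us.map (ev ms)) (us.map (ev gs)) := fun w w' => by
  simp only [ev_map_ev]; exact h _ _

theorem Tr.one {ms : List X} {gs : List G} (h : Tr ms gs) {w : List ℕ} : ev ms w = 1 ↔ ev gs w = 1 := h w []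

theorem Tr.card_eq [Finite X] [Finite G] {ms : List X} {gs : List G} (h : Tr ms gs) (hl : ms.length = gs.length) :
    Nat.card (cl ms) = Nat.card (cl gs) := by
  obtain ⟨f, hf⟩ := exists_hom_of_rel hl fun w => h.one.mp
  rw [← range_eq_cl hf]
  exact Nat.card_congr (f.ofInjective ((injective_iff_map_eq_one f).mpr fun u hu => by
    obtain ⟨w, rfl⟩ := el_surj u
    exact Subtype.ext (h.one.mpr (hf w ▸ hu)))).toEquiv

theorem tr_of_pres [Finite X] [Finite G] {ms : List X} {gs : List G} (hl : ms.length = gs.length)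
    {rels : List (List ℕ)} {N : ℕ}
    (hP : ∀ l : List (X × G), l.length = gs.length → (∀ r ∈ rels, ev l r = 1) → Nat.card (cl l) ≤ N)
    (hN : N = Nat.card (cl ms)) (hN' : N ≤ Nat.card (cl gs)) (hM : ∀ r ∈ rels, ev ms r = 1)
    (hG : ∀ r ∈ rels, ev gs r = 1) : Tr ms gs := by
  obtain ⟨f, hf⟩ := exists_hom_words hl hP hN.le hM hG
  refine Tr.of_hom (f := f) ?_ hf
  have h1 : Function.Injective f.rangeRestrict := (f.rangeRestrict_surjective.bijective_of_nat_card_le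
    (by rw [range_eq_cl hf, ← hN]; exact hN')).1
  exact fun a b e => h1 (Subtype.ext e)

theorem track {ms : List X} {gs : List G} {Γ Λ : List ℕ}
    (hn : ∀ a ∈ Λ, ∀ j ∈ Γ, ∃ u, (∀ b ∈ u, b ∈ Γ) ∧ ev ms [a, j] = ev ms (u ++ [a]) ∧ ev gs [a, j] = ev gs (u ++ [a]))
    {w : List ℕ} (hw : ∀ a ∈ w, a ∈ Λ) {u : List ℕ} (hu : ∀ b ∈ u, b ∈ Γ) :
    ∃ u', (∀ b ∈ u', b ∈ Γ) ∧ ev ms (w ++ u) = ev ms (u' ++ w) ∧ ev gs (w ++ u) = ev gs (u' ++ w) := by
  have h1 : ∀ a ∈ Λ, ∀ u : List ℕ, (∀ b ∈ u, b ∈ Γ) →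
      ∃ u', (∀ b ∈ u', b ∈ Γ) ∧ ev ms (a :: u) = ev ms (u' ++ [a]) ∧ ev gs (a :: u) = ev gs (u' ++ [a]) := by
    intro a ha u hu
    induction u with
    | nil => exact ⟨[], by simp, rfl, rfl⟩
    | cons j u ih =>
      obtain ⟨v, h1, h2, h3⟩ := hn a ha j (hu j List.mem_cons_self)
      obtain ⟨v', h4, h5, h6⟩ := ih fun b hb => hu b (List.mem_cons_of_mem _ hb)
      simp only [ev_append, ev, mul_one] at h2 h3 h5 h6 ⊢
      refine ⟨v ++ v', List.forall_mem_append.mpr ⟨h1, h4⟩, ?_, ?_⟩ <;> rw [ev_append, ← mul_assoc]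
      · rw [h2, mul_assoc, h5, mul_assoc]
      · rw [h3, mul_assoc, h6, mul_assoc]
  induction w with
  | nil => exact ⟨u, hu, by simp, by simp⟩
  | cons a w ih =>
    obtain ⟨v, h2, h3, h4⟩ := ih fun b hb => hw b (List.mem_cons_of_mem _ hb)
    obtain ⟨v', h5, h6, h7⟩ := h1 a (hw a List.mem_cons_self) v h2
    simp only [ev_append, ev, mul_one, List.cons_append] at h3 h4 h6 h7 ⊢
    refine ⟨v', h5, ?_, ?_⟩
    · rw [h3, ← mul_assoc, h6, mul_assoc]
    · rw [h4, ← mul_assoc, h7, mul_assoc]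

theorem track_comm {ms : List X} {gs : List G} {Γ Λ : List ℕ}
    (hn : ∀ a ∈ Λ, ∀ j ∈ Γ, ∃ u, (∀ b ∈ u, b ∈ Γ) ∧ ev ms [a, j] = ev ms (u ++ [a]) ∧ ev gs [a, j] = ev gs (u ++ [a]))
    (ht : ∀ u u' : List ℕ, (∀ b ∈ u, b ∈ Γ) → (∀ b ∈ u', b ∈ Γ) → (ev ms u = ev ms u' ↔ ev gs u = ev gs u'))
    {w : List ℕ} (hw : ∀ a ∈ w, a ∈ Λ) {u : List ℕ} (hu : ∀ b ∈ u, b ∈ Γ) :
    ev ms w * ev ms u = ev ms u * ev ms w ↔ ev gs w * ev gs u = ev gs u * ev gs w := by
  obtain ⟨u', h1, h2, h3⟩ := track hn hw hu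
  simp only [ev_append] at h2 h3
  rw [h2, h3, mul_left_inj, mul_left_inj, ht _ _ h1 hu]

theorem exists_hom_words3 [Finite X] [Finite G] {ms : List X} {gs : List G}
    (hl : ms.length = gs.length) {rels : List (List ℕ)} {N : ℕ}
    (hP : ∀ l : List (X × G), l.length = gs.length → (∀ r ∈ rels, ev l r = 1) → Nat.card (cl l) ≤ N)
    (hN : N ≤ 3 * Nat.card (cl ms)) (hM : ∀ r ∈ rels, ev ms r = 1) (hG : ∀ r ∈ rels, ev gs r = 1)
    (hz : ∀ g : G, (∀ w, g * (ev gs w * ev gs w) = ev gs w * ev gs w * g) → g = 1) :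
    ∃ f : cl ms →* G, ∀ w, f (el ms w) = ev gs w := by
  refine exists_hom_of_rel hl fun w hw => ?_
  obtain ⟨l, rfl, rfl⟩ : ∃ l : List (X × G), ms = l.map Prod.fst ∧ gs = l.map Prod.snd :=
    ⟨ms.zip gs, (List.map_fst_zip hl.le).symm, (List.map_snd_zip hl.ge).symm⟩
  have e1 : ∀ w, (ev l w).1 = ev (l.map Prod.fst) w := map_ev (MonoidHom.fst X G) l
  have e2 : ∀ w, (ev l w).2 = ev (l.map Prod.snd) w := map_ev (MonoidHom.snd X G) l
  have h := (hP l (by simp) fun r hr => Prod.ext ((e1 r).trans (hM r hr)) ((e2 r).trans (hG r hr))).trans hN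
  let π : cl l →* cl (l.map Prod.fst) := ((MonoidHom.fst X G).comp (cl l).subtype).codRestrict _
    fun x => by obtain ⟨w, rfl⟩ := el_surj x; exact (e1 w).symm.subst (motive := (· ∈ cl _)) (ev_mem_cl _ w)
  have h3 : ∀ w, π (el l w) = el _ w := fun w => Subtype.ext (e1 w)
  have h4 := card_eq_card_quotient_mul_card_subgroup π.ker
  rw [Nat.card_congr (QuotientGroup.quotientKerEquivOfSurjective π fun y => by
    obtain ⟨w, rfl⟩ := el_surj y; exact ⟨_, h3 w⟩).toEquiv] at h4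
  have h5 : Nat.card π.ker ≤ 3 := Nat.le_of_mul_le_mul_left (by rw [← h4, mul_comm]; exact h) Nat.card_pos
  have h6 : el l w ∈ π.ker := (h3 w).trans (Subtype.ext hw)
  rw [← e2]
  refine hz _ fun v => ?_
  have h7 : ∀ σ : Equiv.Perm π.ker, σ 1 = 1 → ∀ a, σ (σ a) = a := fun σ h1 a => by
    by_contra h2
    have h8 : σ a ≠ a := fun e => h2 (by rw [e, e])
    have h9 : a ≠ 1 := fun e => h8 (by rw [e, h1])
    have h10 : σ a ≠ 1 := fun e => h9 (σ.injective (e.trans h1.symm))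
    have h11 : σ (σ a) ≠ 1 := fun e => h10 (σ.injective (e.trans h1.symm))
    have h12 : σ (σ a) ≠ σ a := fun e => h8 (σ.injective e)
    have h13 := Set.ncard_le_card ({σ (σ a), σ a, a, 1} : Set π.ker)
    rw [Set.ncard_insert_of_notMem (by simp [h2, h11, h12]), Set.ncard_insert_of_notMem (by simp [h8, h10]),
      Set.ncard_pair h9] at h13
    omega
  have h8 := congrArg (fun x : π.ker => x.1.1.2) (h7 (MulAut.conjNormal (el l v)).toEquiv
    (map_one (MulAut.conjNormal (H := π.ker) (el l v))) ⟨_, h6⟩)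
  rw [← e2]
  have h9 : (ev l v).2 * ((ev l v).2 * (ev l w).2 * (ev l v).2⁻¹) * (ev l v).2⁻¹ = (ev l w).2 := h8
  calc _ = (ev l v).2 * ((ev l v).2 * (ev l w).2 * (ev l v).2⁻¹) * (ev l v).2⁻¹ * ((ev l v).2 * (ev l v).2) := by
        rw [h9]
    _ = _ := by group

theorem conj_of_coprime [Finite G] {N : Subgroup G} {p : ℕ} (hp : p.Prime) (hN : ¬ p ∣ Nat.card N) {g g' : G}
    (hg : ∀ n ∈ N, g * n * g⁻¹ ∈ N) (h : g' * g⁻¹ ∈ N) (h1 : g ^ p = 1) (h2 : g' ^ p = 1) :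
    ∃ n ∈ N, n * g * n⁻¹ = g' := by
  classical
  have := Fact.mk hp
  have := Fintype.ofFinite N
  let f : N → N := fun n => ⟨g' * n * g⁻¹, by simpa [mul_assoc] using mul_mem h (hg n n.2)⟩
  let σ := Equiv.ofBijective f (Finite.injective_iff_bijective.mp fun a b e =>
    Subtype.ext (by simpa [f] using e))
  have h3 : ∀ (k : ℕ) (n : N), ((σ ^ k) n : G) = g' ^ k * n * (g ^ k)⁻¹ := fun k => by
    induction k with
    | zero => simp
    | succ k ih =>
      intro n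
      rw [pow_succ, Equiv.Perm.mul_apply, ih]
      show g' ^ k * (g' * n * g⁻¹) * _ = _
      rw [pow_succ, pow_succ]; group
  obtain ⟨n, hn⟩ := Equiv.Perm.exists_fixed_point_of_prime (p := p) (n := 1) (by rwa [← Nat.card_eq_fintype_card])
    (σ := σ) (Equiv.ext fun n => Subtype.ext (by rw [pow_one, h3, h1, h2]; simp))
  have h4 : g' * n * g⁻¹ = n := congrArg Subtype.val hn
  exact ⟨n, n.2, by rw [← mul_inv_eq_iff_eq_mul.mp h4, mul_inv_cancel_right]⟩

theorem exists_conj_mem [Finite G] {L K : Subgroup G} (hL : L ≤ K) {p a : ℕ} (hp : p.Prime) (ha : ¬ p ∣ a)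
    (hc : Nat.card K = a * Nat.card L) {v : G} (hv : v ∈ K) (h2 : v ^ p = 1) : ∃ g ∈ K, g⁻¹ * v * g ∈ L := by
  have := Fact.mk hp
  have h3 : IsPGroup p (zpowers (⟨v, hv⟩ : K)) := fun x => ⟨1, by
    obtain ⟨_, k, rfl⟩ := x
    refine Subtype.ext (Subtype.ext ?_)
    simp only [pow_one, SubgroupClass.coe_pow, SubgroupClass.coe_zpow, OneMemClass.coe_one]
    rw [← zpow_natCast, ← zpow_mul, mul_comm, zpow_mul, zpow_natCast, h2, one_zpow]⟩
  have h4 := card_eq_card_quotient_mul_card_subgroup (L.subgroupOf K)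
  rw [hc, Nat.card_congr (subgroupOfEquivOfLe hL).toEquiv] at h4
  obtain ⟨a, ha⟩ := h3.nonempty_fixed_point_of_prime_not_dvd_card (K ⧸ L.subgroupOf K)
    (by rwa [← Nat.eq_of_mul_eq_mul_right Nat.card_pos h4])
  obtain ⟨g, rfl⟩ := QuotientGroup.mk_surjective a
  have h1 : ((⟨v, hv⟩ * g : K) : K ⧸ L.subgroupOf K) = g := ha ⟨_, mem_zpowers _⟩
  have h2 := QuotientGroup.eq.mp h1.symm
  rw [← mul_assoc] at h2
  exact ⟨g, g.2, h2⟩

theorem mem_of_subset_list {K : Subgroup G} {l : List G} (h : ∀ g ∈ K, g ∈ l) (hc : l.length ≤ Nat.card K) :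
    ∀ g ∈ l, g ∈ K := fun g hg => by
  classical
  exact (Set.eq_of_subset_of_ncard_le (s := K) (t := l.toFinset) (fun a ha => List.mem_toFinset.mpr (h a ha))
    (by rw [Set.ncard_coe_finset]; exact l.toFinset_card_le.trans hc)).ge (List.mem_toFinset.mpr hg)

theorem mem_list_of_nodup [Finite G] {K : Subgroup G} {l : List G} (h : ∀ g ∈ l, g ∈ K) (hn : l.Nodup)
    (hc : Nat.card K ≤ l.length) : ∀ g ∈ K, g ∈ l := fun g hg => by
  classical
  exact List.mem_toFinset.mp ((Set.eq_of_subset_of_ncard_le (t := K) (s := l.toFinset)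
    (fun a ha => h a (List.mem_toFinset.mp ha))
    (by rw [Set.ncard_coe_finset, List.toFinset_card_of_nodup hn]; exact hc)).ge hg)

/-- A subgroup that controls the fusion and contains the centralizer of an involution. -/
theorem gl_lemma [Finite G] {Y Y0 : Subgroup G} {t : G} (ht : t * t = 1) (tY : t ∈ Y0) (hle : Y0 ≤ Y)
    (hC : ∀ g ∈ Y, g * t = t * g → g ∈ Y0)
    (hF : ∀ g ∈ Y, g * t * g⁻¹ ∈ Y0 → ∃ k ∈ Y0, k * t * k⁻¹ = g * t * g⁻¹)
    (hP : ∀ k ∈ Y0, k * t * k⁻¹ * t = t * (k * t * k⁻¹) → k * t * k⁻¹ = t ∨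
      ∃ m ∈ Y0, m * t * m⁻¹ = k * t * k⁻¹ * t) :
    Y ≤ Y0 ∨ ∃ d ∈ Y, d ∉ Y0 ∧ (∀ a ∈ Y0, ∀ b ∈ Y0, ∃ k ∈ Y0, d * k * d⁻¹ ∈ Y0 ∧
      k * (a * t * a⁻¹) * k⁻¹ = b * t * b⁻¹) ∧ ∀ a ∈ Y0, d * (a * t * a⁻¹) * d⁻¹ ∉ Y0 := by
  have h1 : ∀ g ∈ Y, g * t * g⁻¹ ∈ Y0 → g ∈ Y0 := fun g hg h => by
    obtain ⟨k, hk, e⟩ := hF g hg h
    simpa using mul_mem hk (hC (k⁻¹ * g) (mul_mem (inv_mem (hle hk)) hg) (by
      calc _ = k⁻¹ * (g * t * g⁻¹) * g := by group
        _ = _ := by rw [← e]; group))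
  have h2 : ∀ a ∈ Y0, ∀ g ∈ Y, g * (a * t * a⁻¹) * g⁻¹ ∈ Y0 → g ∈ Y0 := fun a ha g hg h => by
    simpa using mul_mem (h1 (g * a) (mul_mem hg (hle ha)) (by simpa [mul_assoc] using h)) (inv_mem ha)
  have h3 : ∀ a ∈ Y0, a * t * a⁻¹ ∈ Y0 := fun a ha => mul_mem (mul_mem ha tY) (inv_mem ha)
  have h4 : ∀ a ∈ Y0, ∀ g ∈ Y, g * (a * t * a⁻¹) = a * t * a⁻¹ * g → g ∈ Y0 := fun a ha g hg h =>
    h2 a ha g hg (by rw [h, mul_inv_cancel_right]; exact h3 a ha)
  have h5 : ∀ g ∈ Y, g ∉ Y0 → Odd (orderOf (t * (g * t * g⁻¹))) := fun g hg hg' => by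
    have gY : g * t * g⁻¹ ∈ Y := mul_mem (mul_mem hg (hle tY)) (inv_mem hg)
    refine Nat.not_even_iff_odd.mp fun he => hg' (h1 g hg ?_)
    obtain ⟨m, e1, e2, e3, e4⟩ := CIT.exists_central_of_even ht (CIT.conj_sq ht) he
    have uu : g * t * g⁻¹ * (g * t * g⁻¹) = 1 := CIT.conj_sq ht
    generalize hu : g * t * g⁻¹ = u at *
    have zY : (t * u) ^ m ∈ Y0 := hC _ (pow_mem (mul_mem (hle tY) gY) m) e3
    obtain ⟨j, hj, e5⟩ : ∃ j ∈ Y, j * t * j⁻¹ = (t * u) ^ m * t := by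
      have e6 : ∀ k : ℕ, t * (t * u) ^ k * t = ((t * u) ^ k)⁻¹ := fun k => by
        rw [CIT.conj_pow_of_involutions ht uu, mul_assoc, ht, mul_one]
      have e7 : ∀ k : ℕ, (t * u) ^ k * t * ((t * u) ^ k)⁻¹ = (t * u) ^ (k + k) * t := fun k => by
        rw [← e6, pow_add]; simp only [← mul_assoc]; rw [mul_assoc _ t t, ht, mul_one]
      rcases Nat.even_or_odd' m with ⟨k, rfl | rfl⟩
      · exact ⟨_, pow_mem (mul_mem (hle tY) gY) k, by rw [e7, two_mul]⟩
      · refine ⟨(t * u) ^ k * t * g, mul_mem (mul_mem (pow_mem (mul_mem (hle tY) gY) k) (hle tY)) hg, ?_⟩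
        calc _ = (t * u) ^ k * t * u * t⁻¹ * ((t * u) ^ k)⁻¹ := by
              generalize (t * u) ^ k = z; rw [← hu]; group
          _ = (t * u) ^ k * (t * u) * (t * ((t * u) ^ k)⁻¹) := by
            rw [inv_eq_of_mul_eq_one_right ht]; simp only [mul_assoc]
          _ = _ := by
            rw [← e6, ← mul_assoc t, ← mul_assoc t, ht, one_mul, two_mul, ← mul_assoc, ← pow_succ, ← pow_add]
            congr 2; omega
    obtain ⟨k, hk, e6⟩ := hF j hj (e5 ▸ mul_mem zY tY)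
    rw [e5] at e6
    rcases hP k hk (by rw [e6, mul_assoc, ht, mul_one, e3, ← mul_assoc, ht, one_mul]) with e7 | ⟨a, ha, e7⟩
    · exact absurd (mul_eq_right.mp (e6.symm.trans e7)) e1
    · rw [e6, mul_assoc _ t t, ht, mul_one] at e7
      exact h4 a ha u gY (by rw [e7, e4])
  by_cases h6 : Y ≤ Y0
  · exact .inl h6
  obtain ⟨g, hg, hg'⟩ := SetLike.not_le_iff_exists.mp h6
  have gY : g * t * g⁻¹ ∈ Y := mul_mem (mul_mem hg (hle tY)) (inv_mem hg)
  have d0 : g * t * g⁻¹ ∉ Y0 := fun e => hg' (h1 g hg e)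
  refine .inr ⟨_, gY, d0, fun a ha b hb => ?_, fun a ha e => d0 (h2 a ha _ gY e)⟩
  set d := g * t * g⁻¹ with hd
  have dd : d * d = 1 := CIT.conj_sq ht
  have h7 := h5 (a⁻¹ * d * b) (mul_mem (mul_mem (inv_mem (hle ha)) gY) (hle hb)) fun e =>
    d0 (by simpa [mul_assoc] using mul_mem (mul_mem ha e) (inv_mem hb))
  obtain ⟨m, e1, e2⟩ := CIT.exists_swap_of_odd ht (CIT.conj_sq ht) h7
  set w := (t * (a⁻¹ * d * b * t * (a⁻¹ * d * b)⁻¹)) ^ m * t with hw
  have wY : w ∈ Y := by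
    have := mul_mem (mul_mem (inv_mem (hle ha)) gY) (hle hb)
    exact mul_mem (pow_mem (mul_mem (hle tY) (mul_mem (mul_mem this (hle tY)) (inv_mem this))) m) (hle tY)
  have e3 : d * (a * w * a⁻¹) * (a * t * a⁻¹) * (d * (a * w * a⁻¹))⁻¹ = b * t * b⁻¹ := by
    calc _ = d * a * (w * t * w⁻¹) * a⁻¹ * d⁻¹ := by group
      _ = (d * d) * (b * t * b⁻¹) * (d * d)⁻¹ := by rw [e2]; group
      _ = _ := by rw [dd]; group
  have e4 : d * (a * w * a⁻¹) ∈ Y0 :=
    h2 a ha _ (mul_mem gY (mul_mem (mul_mem (hle ha) wY) (inv_mem (hle ha)))) (e3 ▸ h3 b hb)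
  refine ⟨_, e4, ?_, e3⟩
  have e5 := inv_mem e4
  rw [mul_inv_rev, inv_eq_of_mul_eq_one_right (CIT.conj_sq e1)] at e5
  rwa [← mul_assoc, dd, one_mul]

end Cfsg.Agent.HSR
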